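import Groth.Agent.Cyc90.Frame.Maps
import Groth.Agent.Cyc90.RatFamily
import Groth.Agent.Cyc90.SuppComm

/-! Additivity of the lattice class up to principal divisors. -/

set_option autoImplicit false
set_option backward.isDefEq.respectTransparency.types false
set_option linter.style.haveILetI false
universe u

open CategoryTheory AlgebraicGeometry IsLocalRing

namespace Groth.Agent.Cyc90.Frame

attribute [local instance] algRes

variable {X : Scheme.{u}} {δ : X → ℤ} {k : ℤ}

lemma stalk_exact {T : ShortComplex X.Modules} (hT : T.ShortExact) (z : X) (e : T.X₂.presheaf.stalk z) :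
    QC70.stalkLinear T.g z e = 0 ↔ ∃ d, QC70.stalkLinear T.f z d = e := by
  have := hT.mono_f
  constructor
  · exact fun he => QC70.stalkMapM_exact T hT.exact z e he
  · rintro ⟨d, rfl⟩
    obtain ⟨W, hzW, s, rfl⟩ := QC70.germM_exist d
    change QC70.stalkMapM T.g z (QC70.stalkMapM T.f z _) = 0
    rw [QC70.stalkMapM_germ, QC70.stalkMapM_germ, ← QC70.germM_zero (M := T.X₃) hzW]
    congr 1
    exact congr($(T.zero).app W s)

lemma cohLe_of_shortExact {T : ShortComplex X.Modules} (hT : T.ShortExact) {n : ℤ}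
    (h2 : Cyc.CohLe δ n T.X₂) (h1 : Coh.IsCoh T.X₁) (h3 : Coh.IsCoh T.X₃) :
    Cyc.CohLe δ n T.X₁ ∧ Cyc.CohLe δ n T.X₃ := by
  have := hT.mono_f
  have := hT.epi_g
  refine ⟨⟨h1, fun z hz => h2.2 z ?_⟩, ⟨h3, fun z hz => h2.2 z ?_⟩⟩
  · exact (QC70.injective_stalkMapM_of_mono T.f z).nontrivial
  · exact (QC70.surjective_stalkMapM_of_epi T.g z).nontrivial

variable (hX : Cyc.IsSetup X δ)
include hX

/-- The difference of `dF` in a short exact sequence at one place. -/
theorem exists_scalar {T : ShortComplex X.Modules} (hT : T.ShortExact) (h2 : Cyc.CohLe δ (k + 1) T.X₂)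
    (h1 : Coh.IsCoh T.X₁) (h3 : Coh.IsCoh T.X₃) {ξ : X} (hξ : δ ξ = k + 1) :
    ∃ f : X.residueField ξ, f ≠ 0 ∧ ∀ (x : X) (h : ξ ⤳ x), δ x = k →
      letI := algO h
      haveI := towerSt T.X₁ h; haveI := towerSt T.X₂ h
      relLen ((latN T.X₂ h).comap ((stMap T.f h).restrictScalars (X.presheaf.stalk x))) (latN T.X₁ h) ≠ ⊤ ∧
      dF T.X₂ h = dF T.X₁ h + dF T.X₃ h +
        zl ((latN T.X₂ h).comap ((stMap T.f h).restrictScalars (X.presheaf.stalk x))) (latN T.X₁ h) +
        Cyc.ordAt x ξ h f := by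
  classical
  obtain ⟨g1, g3⟩ := cohLe_of_shortExact hT h2 h1 h3
  have := hX.1
  have := hT.mono_f
  have := hT.epi_g
  let O := X.presheaf.stalk ξ
  let κ := X.residueField ξ
  obtain ⟨-, -, hne1⟩ := exists_framing_stalk hX g1 hξ
  obtain ⟨n, hn, hne2⟩ := exists_framing_stalk hX h2 hξ
  obtain ⟨-, -, hne3⟩ := exists_framing_stalk hX g3 hξ
  let f := QC70.stalkLinear T.f ξ
  let g := QC70.stalkLinear T.g ξ
  have hf : Function.Injective f := QC70.injective_stalkMapM_of_mono T.f ξ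
  have hg : Function.Surjective g := QC70.surjective_stalkMapM_of_epi T.g ξ
  have hker : (⊤ : Submodule O (T.X₁.presheaf.stalk ξ)).map f = (⊥ : Submodule O (T.X₃.presheaf.stalk ξ)).comap g := by
    ext e
    rw [Submodule.map_top, LinearMap.mem_range, Submodule.mem_comap, Submodule.mem_bot]
    exact (stalk_exact hT ξ e).symm
  let e13 : Framing (κ := κ) (⊤ : Submodule O (T.X₂.presheaf.stalk ξ)) :=
    Framing.lift g hg (hker ▸ (hne1.some.map f hf)) hne3.some
  obtain ⟨c, hc, hrel⟩ := exists_rel (algebraMap_res_surjective ξ) n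
    (⊤ : Submodule O (T.X₂.presheaf.stalk ξ)) hn hne2.some e13
  refine ⟨c⁻¹, inv_ne_zero hc, fun x h hx => ?_⟩
  have hd : δ x + 1 = δ ξ := by omega
  let R := X.presheaf.stalk x
  letI := algO h; letI := algK h
  haveI := tower h
  haveI := towerSt T.X₁ h; haveI := towerSt T.X₂ h; haveI := towerSt T.X₃ h
  have hgood := isGood hX h hd
  have l1 := isLat_latN g1 h
  have l2 := isLat_latN h2 h
  let fR := (stMap T.f h).restrictScalars R
  let A := (latN T.X₂ h).comap fR
  have hle : latN T.X₁ h ≤ A := by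
    rintro _ ⟨m, rfl⟩
    exact ⟨QC70.stalkLinear T.f x m, (stMap_spL T.f h m).symm⟩
  have lA : IsLat (κ := κ) R (⊤ : Submodule O (St T.X₁ h)) A := by
    refine ⟨Submodule.fg_of_fg_map_injective fR hf (fg_of_le l2.fg (Submodule.map_comap_le _ _)),
      fun w hw => ?_⟩
    obtain ⟨s, hs, hsw⟩ := l1.full w hw
    exact ⟨s, hs, hle hsw⟩
  obtain ⟨hfin, hA⟩ := relLen_lat hgood
    (show Framing (κ := κ) (⊤ : Submodule O (St T.X₁ h)) from hne1.some) hle lA l1
  have htop : ∀ N : Submodule R (St T.X₁ h),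
      N ⊓ (⊤ : Submodule O (St T.X₁ h)).restrictScalars R = N := fun N =>
    inf_eq_left.2 fun v _ => trivial
  rw [htop, htop] at hfin hA
  refine ⟨hfin, ?_⟩
  have h23 : (latN T.X₂ h).map ((stMap T.g h).restrictScalars R) = latN T.X₃ h := by
    ext v
    constructor
    · rintro ⟨_, ⟨m, rfl⟩, rfl⟩; exact ⟨QC70.stalkLinear T.g x m, (stMap_spL T.g h m).symm⟩
    · rintro ⟨m, rfl⟩
      obtain ⟨m, rfl⟩ := QC70.surjective_stalkMapM_of_epi T.g x m
      exact ⟨_, ⟨m, rfl⟩, stMap_spL T.g h m⟩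
  have e2 : d R (show Framing (κ := κ) (⊤ : Submodule O (St T.X₂ h)) from hne2.some) (latN T.X₂ h) =
      d R (show Framing (κ := κ) (⊤ : Submodule O (St T.X₂ h)) from e13) (latN T.X₂ h) + ω R c := by
    have hr : Rel (V := St T.X₂ h)
        (show Framing (κ := κ) (⊤ : Submodule O (St T.X₂ h)) from hne2.some)
        (show Framing (κ := κ) (⊤ : Submodule O (St T.X₂ h)) from e13) c := hrel
    exact hr R hgood (latN T.X₂ h) l2
  have e3 : d R (show Framing (κ := κ) (⊤ : Submodule O (St T.X₂ h)) from e13) (latN T.X₂ h) =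
      d R (show Framing (κ := κ) (⊤ : Submodule O (St T.X₁ h)) from hne1.some) A +
      d R (show Framing (κ := κ) (⊤ : Submodule O (St T.X₃ h)) from hne3.some) (latN T.X₃ h) := by
    have hker' : (⊤ : Submodule O (St T.X₁ h)).map (stMap T.f h) =
        (⊥ : Submodule O (St T.X₃ h)).comap (stMap T.g h) := hker
    refine (d_lift (V := St T.X₂ h) (V'' := St T.X₃ h) R (stMap T.g h) hg
      (hker' ▸ ((show Framing (κ := κ) (⊤ : Submodule O (St T.X₁ h)) from hne1.some).map (stMap T.f h) hf))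
      (show Framing (κ := κ) (⊤ : Submodule O (St T.X₃ h)) from hne3.some) (latN T.X₂ h)).trans ?_
    refine congrArg₂ (· + ·) ((d_cast R hker' _ _).trans ?_) (congrArg _ h23)
    exact d_map (V := St T.X₂ h) (V' := St T.X₁ h) R (stMap T.f h) hf
      (show Framing (κ := κ) (⊤ : Submodule O (St T.X₁ h)) from hne1.some) (latN T.X₂ h)
  have E1 : dF T.X₁ h = d R (show Framing (κ := κ) (⊤ : Submodule O (St T.X₁ h)) from hne1.some) (latN T.X₁ h) :=
    exists_dF_eq T.X₁ h hne1
  have E2 : dF T.X₂ h = d R (show Framing (κ := κ) (⊤ : Submodule O (St T.X₂ h)) from hne2.some) (latN T.X₂ h) :=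
    exists_dF_eq T.X₂ h hne2
  have E3 : dF T.X₃ h = d R (show Framing (κ := κ) (⊤ : Submodule O (St T.X₃ h)) from hne3.some) (latN T.X₃ h) :=
    exists_dF_eq T.X₃ h hne3
  rw [e3, hA, ← E1, ← E2, ← E3, ordAt_eq_neg_ω hX h hd c hc] at e2
  rw [ordAt_inv hX h hd c hc]
  simp only [A, fR, R] at e2
  linarith

/-- Additivity of the class on a point set. -/
theorem exists_divisors {T : ShortComplex X.Modules} (hT : T.ShortExact) (h2 : Cyc.CohLe δ (k + 1) T.X₂)
    (h1 : Coh.IsCoh T.X₁) (h3 : Coh.IsCoh T.X₃) :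
    ∃ f : (ξ : X) → X.residueField ξ, (∀ ξ, f ξ ≠ 0) ∧ ∀ x, δ x = k →
      cF T.X₂ δ k x = cF T.X₁ δ k x + cF T.X₃ δ k x +
        ∑ i ∈ suppPts T.X₂ δ k x, Cyc.divFun δ i.1 (f i.1) x := by
  classical
  obtain ⟨g1, g3⟩ := cohLe_of_shortExact hT h2 h1 h3
  have := hX.1
  have := hT.mono_f
  have := hT.epi_g
  let f : (ξ : X) → X.residueField ξ := fun ξ =>
    if hξ : δ ξ = k + 1 then (exists_scalar hX hT h2 h1 h3 hξ).choose else 1
  refine ⟨f, fun ξ => ?_, fun x hx => ?_⟩
  · simp only [f]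
    split_ifs with hξ
    · exact (exists_scalar hX hT h2 h1 h3 hξ).choose_spec.1
    · exact one_ne_zero
  set S := suppPts T.X₂ δ k x with hS
  have hsub : ∀ i : Pt δ k x, i ∉ S →
      Subsingleton (T.X₁.presheaf.stalk i.1) ∧ Subsingleton (T.X₃.presheaf.stalk i.1) := by
    intro i hi
    have := subsingleton_of_notMem hX h2 hx hi
    exact ⟨(QC70.injective_stalkMapM_of_mono T.f i.1).subsingleton,
      (QC70.surjective_stalkMapM_of_epi T.g i.1).subsingleton⟩
  have s1 : suppPts T.X₁ δ k x ⊆ S := fun i hi => by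
    by_contra hn
    have := (hsub i hn).1
    rw [suppPts, dif_pos (finite_supp hX g1 x hx), Set.Finite.mem_toFinset] at hi
    exact not_subsingleton_iff_nontrivial.2 hi this
  have s3 : suppPts T.X₃ δ k x ⊆ S := fun i hi => by
    by_contra hn
    have := (hsub i hn).2
    rw [suppPts, dif_pos (finite_supp hX g3 x hx), Set.Finite.mem_toFinset] at hi
    exact not_subsingleton_iff_nontrivial.2 hi this
  rw [cF_eq hX g1 hx s1, cF_eq hX g3 hx s3, cF_eq hX h2 hx (subset_refl S)]
  let R := X.presheaf.stalk x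
  have hdiv : ∀ i : Pt δ k x, Cyc.divFun δ i.1 (f i.1) x = Cyc.ordAt x i.1 i.2.1 (f i.1) := fun i => by
    rw [Cyc.divFun, dif_pos ⟨i.2.1, by rw [i.2.2, hx]⟩]
  have hloc : ∀ i : Pt δ k x,
      letI := algO i.2.1
      haveI := towerSt T.X₁ i.2.1; haveI := towerSt T.X₂ i.2.1
      relLen ((latN T.X₂ i.2.1).comap ((stMap T.f i.2.1).restrictScalars R)) (latN T.X₁ i.2.1) ≠ ⊤ ∧
      dF T.X₂ i.2.1 = dF T.X₁ i.2.1 + dF T.X₃ i.2.1 +
        zl ((latN T.X₂ i.2.1).comap ((stMap T.f i.2.1).restrictScalars R)) (latN T.X₁ i.2.1) +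
        Cyc.ordAt x i.1 i.2.1 (f i.1) := fun i => by
    have := (exists_scalar hX hT h2 h1 h3 i.2.2).choose_spec.2 x i.2.1 hx
    simp only [f, dif_pos i.2.2]
    exact this
  -- the maps on products
  let p : T.X₂.presheaf.stalk x →ₗ[R] T.X₃.presheaf.stalk x := QC70.stalkLinear T.g x
  let qi : (i : S) → ↥(latN T.X₂ i.1.2.1) →ₗ[R] ↥(latN T.X₃ i.1.2.1) := fun i =>
    letI := algO i.1.2.1
    haveI := towerSt T.X₂ i.1.2.1; haveI := towerSt T.X₃ i.1.2.1
    ((stMap T.g i.1.2.1).restrictScalars R).restrict fun v hv => by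
      obtain ⟨m, rfl⟩ := hv
      exact ⟨QC70.stalkLinear T.g x m, (stMap_spL T.g i.1.2.1 m).symm⟩
  let ii : (i : S) → ↥(latN T.X₁ i.1.2.1) →ₗ[R] ↥(latN T.X₂ i.1.2.1) := fun i =>
    letI := algO i.1.2.1
    haveI := towerSt T.X₁ i.1.2.1; haveI := towerSt T.X₂ i.1.2.1
    ((stMap T.f i.1.2.1).restrictScalars R).restrict fun v hv => by
      obtain ⟨m, rfl⟩ := hv
      exact ⟨QC70.stalkLinear T.f x m, (stMap_spL T.f i.1.2.1 m).symm⟩
  let q := LinearMap.pi fun i => (qi i) ∘ₗ LinearMap.proj i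
  let ι := LinearMap.pi fun i => (ii i) ∘ₗ LinearMap.proj i
  have hii : ∀ i, Function.Injective (ii i) := fun i a b e =>
    Subtype.ext (QC70.injective_stalkMapM_of_mono T.f i.1.1 (congrArg Subtype.val e))
  have hι : Function.Injective ι := fun a b e => funext fun i => hii i (congrFun e i)
  have hqi : ∀ i, Function.Surjective (qi i) := by
    intro i v
    obtain ⟨m, hm⟩ := v.2
    obtain ⟨m, rfl⟩ := QC70.surjective_stalkMapM_of_epi T.g x m
    exact ⟨⟨_, m, rfl⟩, Subtype.ext ((stMap_spL T.g i.1.2.1 m).trans hm)⟩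
  have hq : Function.Surjective q := fun b =>
    ⟨fun i => (hqi i (b i)).choose, funext fun i => (hqi i (b i)).choose_spec⟩
  have hc : hmap T.X₃ δ k S ∘ₗ p = q ∘ₗ hmap T.X₂ δ k S :=
    LinearMap.ext fun m => funext fun i => Subtype.ext (stMap_spL T.g i.1.2.1 m).symm
  have hcf : hmap T.X₂ δ k S ∘ₗ QC70.stalkLinear T.f x = ι ∘ₗ hmap T.X₁ δ k S :=
    LinearMap.ext fun m => funext fun i => Subtype.ext (stMap_spL T.f i.1.2.1 m).symm
  have hkp : LinearMap.ker p = LinearMap.range (QC70.stalkLinear T.f x) := by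
    ext m; exact stalk_exact hT x m
  have hkq : LinearMap.ker q = Submodule.pi Set.univ fun i => LinearMap.ker (qi i) := by
    ext b
    rw [LinearMap.mem_ker, Submodule.mem_pi]
    exact ⟨fun h i _ => congrFun h i, fun h => funext fun i => h i trivial⟩
  have hri : LinearMap.range ι = Submodule.pi Set.univ fun i => LinearMap.range (ii i) := by
    ext b
    rw [Submodule.mem_pi]
    refine ⟨fun ⟨a, ha⟩ i _ => ⟨a i, congrFun ha i⟩, fun h => ⟨fun i => (h i trivial).choose,
      funext fun i => (h i trivial).choose_spec⟩⟩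
  have hone : ∀ i : S,
      letI := algO i.1.2.1
      haveI := towerSt T.X₁ i.1.2.1; haveI := towerSt T.X₂ i.1.2.1
      relLen (LinearMap.ker (qi i)) (LinearMap.range (ii i)) =
        relLen ((latN T.X₂ i.1.2.1).comap ((stMap T.f i.1.2.1).restrictScalars R)) (latN T.X₁ i.1.2.1) := by
    intro i
    letI := algO i.1.2.1
    haveI := towerSt T.X₁ i.1.2.1; haveI := towerSt T.X₂ i.1.2.1
    have hle : LinearMap.range (ii i) ≤ LinearMap.ker (qi i) := by
      rintro _ ⟨a, rfl⟩
      exact Subtype.ext ((stalk_exact hT i.1.1 _).2 ⟨a.1, rfl⟩)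
    have hle' : latN T.X₁ i.1.2.1 ≤
        (latN T.X₂ i.1.2.1).comap ((stMap T.f i.1.2.1).restrictScalars R) := by
      rintro _ ⟨m, rfl⟩
      exact ⟨QC70.stalkLinear T.f x m, (stMap_spL T.f i.1.2.1 m).symm⟩
    rw [← relLen_map_of_injective (latN T.X₂ i.1.2.1).subtype Subtype.val_injective hle,
      ← relLen_map_of_injective ((stMap T.f i.1.2.1).restrictScalars R)
        (QC70.injective_stalkMapM_of_mono T.f i.1.1) hle']
    congr 1
    · ext v
      constructor
      · rintro ⟨w, hw, rfl⟩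
        obtain ⟨a, ha⟩ := (stalk_exact hT i.1.1 w.1).1 (congrArg Subtype.val (LinearMap.mem_ker.1 hw))
        refine ⟨a, ?_, ha⟩
        change QC70.stalkLinear T.f i.1.1 a ∈ latN T.X₂ i.1.2.1
        exact ha.symm ▸ w.2
      · rintro ⟨a, ha, rfl⟩
        exact ⟨⟨_, ha⟩, Subtype.ext ((stalk_exact hT i.1.1 _).2 ⟨a, rfl⟩), rfl⟩
    · ext v
      constructor
      · rintro ⟨_, ⟨a, rfl⟩, rfl⟩; exact ⟨a.1, a.2, rfl⟩
      · rintro ⟨a, ha, rfl⟩; exact ⟨ii i ⟨a, ha⟩, ⟨_, rfl⟩, rfl⟩
  have hι' : relLen (LinearMap.ker q) (LinearMap.range ι) =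
      ∑ i : S, relLen (LinearMap.ker (qi i)) (LinearMap.range (ii i)) := by
    rw [hkq, hri, relLen_pi]
  have hfin1 : relLen (LinearMap.ker q) (LinearMap.range ι) ≠ ⊤ := by
    rw [hι']
    exact WithTop.sum_ne_top.2 fun i _ => (hone i) ▸ (hloc i.1).1
  have hf2 := finChi hX h2 hx (subset_refl S)
  have hf1 := finChi hX g1 hx s1
  have hf3 := finChi hX g3 hx s3
  have hrange : (LinearMap.ker p).map (hmap T.X₂ δ k S) =
      (LinearMap.range (hmap T.X₁ δ k S)).map ι := by
    rw [hkp, ← LinearMap.range_comp, hcf, LinearMap.range_comp]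
  have hlin : relLen (LinearMap.range ι) ((LinearMap.range (hmap T.X₁ δ k S)).map ι) =
      Module.length R (_ ⧸ LinearMap.range (hmap T.X₁ δ k S)) := by
    rw [LinearMap.range_eq_map ι, relLen_map_of_injective ι hι le_top, relLen_top]
  have hle2 : LinearMap.range ι ≤ LinearMap.ker q := by
    rintro _ ⟨a, rfl⟩
    exact LinearMap.mem_ker.2 (funext fun i => Subtype.ext ((stalk_exact hT i.1.1 _).2 ⟨(a i).1, rfl⟩))
  have hA : relLen (LinearMap.ker q) ((LinearMap.ker p).map (hmap T.X₂ δ k S)) ≠ ⊤ := by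
    rw [hrange, relLen_add hle2 LinearMap.map_le_range, hlin]
    exact WithTop.add_ne_top.2 ⟨hfin1, hf1.2⟩
  have hchi := chi_eq_add (hmap T.X₂ δ k S) (hmap T.X₃ δ k S) p q
    (QC70.surjective_stalkMapM_of_epi T.g x) hq hc hf2 hf3 hA
  have hkern : Module.length R ↥(LinearMap.ker (hmap T.X₂ δ k S) ⊓ LinearMap.ker p) =
      Module.length R ↥(LinearMap.ker (hmap T.X₁ δ k S)) := by
    have e : LinearMap.ker (hmap T.X₂ δ k S) ⊓ LinearMap.ker p =
        (LinearMap.ker (hmap T.X₁ δ k S)).map (QC70.stalkLinear T.f x) := by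
      rw [hkp, inf_comm, ← Submodule.map_comap_eq, ← LinearMap.ker_comp, hcf, LinearMap.ker_comp,
        LinearMap.ker_eq_bot.2 hι, Submodule.comap_bot]
    rw [e]
    exact (Submodule.equivMapOfInjective _ (QC70.injective_stalkMapM_of_mono T.f x) _).length_eq.symm
  rw [hkern, hrange, zl_add hle2 LinearMap.map_le_range hfin1 (hlin.trans_ne hf1.2),
    show zl (LinearMap.range ι) ((LinearMap.range (hmap T.X₁ δ k S)).map ι) =
      ((Module.length R (_ ⧸ LinearMap.range (hmap T.X₁ δ k S))).toNat : ℤ) by rw [zl, hlin]] at hchi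
  have hz : zl (LinearMap.ker q) (LinearMap.range ι) =
      ∑ i ∈ S, (letI := algO i.2.1
        haveI := towerSt T.X₁ i.2.1; haveI := towerSt T.X₂ i.2.1
        zl ((latN T.X₂ i.2.1).comap ((stMap T.f i.2.1).restrictScalars R)) (latN T.X₁ i.2.1)) := by
    rw [zl, hι', ENat.toNat_sum fun i _ => (hone i) ▸ (hloc i.1).1, Nat.cast_sum, ← Finset.sum_coe_sort S]
    exact Finset.sum_congr rfl fun i _ => by rw [hone i]; rfl
  rw [hz] at hchi
  simp only [cS, hdiv]
  rw [hchi, Finset.sum_congr rfl fun i _ => (hloc i).2]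
  simp only [Finset.sum_add_distrib, chi]
  ring

/-- The points of top dimension in the support are locally finite. -/
lemma locallyFinite_top {F : X.Modules} (hF : Cyc.CohLe δ (k + 1) F) :
    ∀ x : X, ∃ U : Set X, IsOpen U ∧ x ∈ U ∧
      {i : {ξ : X // δ ξ = k + 1 ∧ Nontrivial (F.presheaf.stalk ξ)} |
        (closure {i.1} ∩ U).Nonempty}.Finite := by
  have := hX.1
  intro x
  obtain ⟨U, hU, hxU, -⟩ := exists_isAffineOpen_mem_and_subset (X := X) (x := x) (U := ⊤) trivial
  refine ⟨U, U.2, hxU, ?_⟩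
  have : IsAffine (U : Scheme) := hU
  have : IsNoetherianRing Γ(X, U) := IsLocallyNoetherian.component_noetherian ⟨U, hU⟩
  obtain ⟨_, _⟩ := hF.1
  let Z : Set X := CohB1.support F
  have hN : TopologicalSpace.NoetherianSpace (U : Set X) := noetherianSpace_of_isAffineOpen U hU
  let W : Set (U : Set X) := Subtype.val ⁻¹' Z
  have : TopologicalSpace.NoetherianSpace W :=
    (Topology.IsInducing.subtypeVal (t := W)).noetherianSpace
  have hfin := TopologicalSpace.NoetherianSpace.finite_irreducibleComponents (α := W)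
  refine Set.Finite.of_finite_image
    (f := fun i : {ξ : X // δ ξ = k + 1 ∧ Nontrivial (F.presheaf.stalk ξ)} => closure ({i.1} : Set X)) ?_ ?_
  · refine (hfin.image fun C : Set W => closure (Subtype.val '' (Subtype.val '' C))).subset ?_
    rintro _ ⟨i, hi, rfl⟩
    have hiU : i.1 ∈ U := by
      obtain ⟨y, hy, hyU⟩ := hi
      exact (specializes_iff_mem_closure.2 hy).mem_open U.2 hyU
    let w : W := ⟨⟨i.1, hiU⟩, not_subsingleton_iff_nontrivial.2 i.2.2⟩
    refine ⟨irreducibleComponent w, irreducibleComponent_mem_irreducibleComponents w,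
      Set.Subset.antisymm (closure_minimal ?_ isClosed_closure)
        (closure_mono (Set.singleton_subset_iff.2 ⟨w.1, ⟨w, mem_irreducibleComponent, rfl⟩, rfl⟩))⟩
    rintro _ ⟨_, ⟨v, hv, rfl⟩, rfl⟩
    -- the component has a dense point above `i`
    have hirr : IsIrreducible (closure (Subtype.val '' (Subtype.val '' irreducibleComponent w)) : Set X) :=
      ((isIrreducible_irreducibleComponent.image _ continuous_subtype_val.continuousOn).image _
        continuous_subtype_val.continuousOn).closure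
    obtain ⟨ζ, hζ⟩ := QuasiSober.sober hirr isClosed_closure
    have hclZ : closure (Subtype.val '' (Subtype.val '' irreducibleComponent w)) ⊆ Z := by
      refine closure_minimal ?_ (QC70.isClosed_support F)
      rintro _ ⟨_, ⟨v, -, rfl⟩, rfl⟩
      exact v.2
    have h1 : ζ ⤳ i.1 := hζ.specializes (subset_closure ⟨w.1, ⟨w, mem_irreducibleComponent, rfl⟩, rfl⟩)
    have h2 : δ ζ ≤ k + 1 := hF.2 ζ (not_subsingleton_iff_nontrivial.1 (hclZ hζ.mem))
    have h3 := eq_of_delta_le hX.2.2 h1 (by rw [i.2.1]; exact h2)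
    change v.1.1 ∈ closure {i.1}
    rw [← h3, hζ.def]
    exact subset_closure ⟨v.1, ⟨v, hv, rfl⟩, rfl⟩
  · intro a _ b _ e
    exact Subtype.ext (inseparable_iff_closure_eq.2 e).eq

/-- The class is additive modulo principal divisors. -/
theorem cF_shortExact {T : ShortComplex X.Modules} (hT : T.ShortExact) (h2 : Cyc.CohLe δ (k + 1) T.X₂)
    (h1 : Coh.IsCoh T.X₁) (h3 : Coh.IsCoh T.X₃) :
    RatFamIn δ k Set.univ
      (fun x => cF T.X₂ δ k x - cF T.X₁ δ k x - cF T.X₃ δ k x) := by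
  classical
  obtain ⟨f, hf, heq⟩ := exists_divisors hX hT h2 h1 h3
  refine ⟨{ξ : X // δ ξ = k + 1 ∧ Nontrivial (T.X₂.presheaf.stalk ξ)}, Subtype.val, fun i => f i.1,
    fun i => i.2.1, fun i => hf _, fun _ => trivial, locallyFinite_top hX h2, fun x => ?_⟩
  by_cases hx : δ x = k
  swap
  · simp only [cF, if_neg hx, sub_zero]
    refine (finsum_eq_zero_of_forall_eq_zero fun i => ?_).symm
    rw [Cyc.divFun, dif_neg fun h => hx (by have := h.2; have := i.2.1; omega)]
  beta_reduce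
  rw [heq x hx]
  have hmem : ∀ j : Pt δ k x, j ∈ suppPts T.X₂ δ k x ↔ Nontrivial (T.X₂.presheaf.stalk j.1) := fun j => by
    rw [suppPts, dif_pos (finite_supp hX h2 x hx), Set.Finite.mem_toFinset]; rfl
  rw [finsum_eq_sum_of_support_subset _ (s := (suppPts T.X₂ δ k x).attach.image fun j =>
    (⟨j.1.1, j.1.2.2, (hmem j.1).1 j.2⟩ : {ξ : X // δ ξ = k + 1 ∧ Nontrivial (T.X₂.presheaf.stalk ξ)})) ?_,
    Finset.sum_image fun a _ b _ e => Subtype.ext (Subtype.ext (congrArg (·.1) e)),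
    ← Finset.sum_attach (suppPts T.X₂ δ k x)]
  · ring
  · intro i hi
    simp only [Function.mem_support] at hi
    unfold Cyc.divFun at hi
    split_ifs at hi with h
    · refine Finset.mem_image.2 ⟨⟨⟨i.1, h.1, i.2.1⟩, (hmem _).2 i.2.2⟩, Finset.mem_attach _ _, rfl⟩
    · exact absurd rfl hi

end Groth.Agent.Cyc90.Frame
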