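import Groth.Agent.Cyc90.Frame.Framing
import Mathlib.RingTheory.LocalRing.Basic
import Mathlib.RingTheory.FiniteLength
import Mathlib.Order.Atoms

/-! Two framings differ by the order of a scalar. -/

set_option autoImplicit false
universe u

namespace Groth.Agent.Cyc90.Frame

variable {O κ : Type u} [CommRing O] [IsLocalRing O] [Field κ] [Algebra O κ]
  {V : Type u} [AddCommGroup V] [Module O V]

/-- The lattice functions of two framings differ by `ω f` at every place. -/
def Rel {W : Submodule O V} (e e' : Framing (κ := κ) W) (f : κ) : Prop :=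
  ∀ (R : Type u) [CommRing R] [IsLocalRing R] [IsNoetherianRing R] [Algebra R O] [Algebra R κ]
    [IsScalarTower R O κ] [Module R V] [IsScalarTower R O V], IsGood R O κ →
    ∀ N : Submodule R V, IsLat (κ := κ) R W N → d R e N = d R e' N + ω R f

lemma Rel.trans {W : Submodule O V} {e e' e'' : Framing (κ := κ) W} {f g : κ} (h : Rel e e' f)
    (h' : Rel e' e'' g) (hf : f ≠ 0) (hg0 : g ≠ 0) : Rel e e'' (g * f) := fun R _ _ _ _ _ _ _ _ hg N hN => by
  rw [h R hg N hN, h' R hg N hN, ω_mul hg hg0 hf, add_assoc]

lemma length_step {W W' : Submodule O V} (φ : ↥W →ₗ[O] κ) (hs : Function.Surjective φ)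
    (hker : LinearMap.ker φ = W'.comap W.subtype) (hle : W' ≤ W) :
    Module.length O W = Module.length O W' + Module.length O κ := by
  rw [Module.length_eq_add_of_exact (Submodule.inclusion hle) φ (Submodule.inclusion_injective hle) hs]
  intro x
  rw [← LinearMap.mem_ker, hker]
  exact ⟨fun hx => ⟨⟨x, hx⟩, rfl⟩, fun ⟨y, hy⟩ => hy ▸ y.2⟩

variable (hκ : Function.Surjective (algebraMap O κ))
include hκ

lemma length_κ : Module.length O κ = 1 := by
  rw [Module.length_eq_of_surjective (R := κ) hκ]
  exact Module.length_eq_one κ κ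

omit hκ in
lemma smul_eq_mul' (o : O) (c : κ) : o • c = algebraMap O κ o * c := Algebra.smul_def o c

/-- A proper maximal submodule is the kernel of a surjection onto `κ`. -/
lemma exists_step (W : Submodule O V) [Module.Finite O W] (hW : W ≠ ⊥) :
    ∃ (W' : Submodule O V) (φ : ↥W →ₗ[O] κ), Function.Surjective φ ∧
      LinearMap.ker φ = W'.comap W.subtype ∧ W' ≤ W := by
  have : Nontrivial ↥W := Submodule.nontrivial_iff_ne_bot.2 hW
  obtain ⟨P, hP, -⟩ := (eq_top_or_exists_le_coatom (⊥ : Submodule O ↥W)).resolve_left bot_ne_top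
  have : IsSimpleModule O (↥W ⧸ P) := isSimpleModule_iff_isCoatom.2 hP
  have := IsSimpleModule.nontrivial O (↥W ⧸ P)
  obtain ⟨x, hx⟩ := exists_ne (0 : ↥W ⧸ P)
  have hsurj : Function.Surjective (LinearMap.toSpanSingleton O (↥W ⧸ P) x) :=
    IsSimpleModule.toSpanSingleton_surjective O hx
  have hk : LinearMap.ker (LinearMap.toSpanSingleton O (↥W ⧸ P) x) = IsLocalRing.maximalIdeal O :=
    IsLocalRing.eq_maximalIdeal (IsSimpleModule.ker_toSpanSingleton_isMaximal O hx)
  have hk' : LinearMap.ker (Algebra.linearMap O κ) = IsLocalRing.maximalIdeal O :=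
    IsLocalRing.eq_maximalIdeal (RingHom.ker_isMaximal_of_surjective (algebraMap O κ) hκ)
  let e : (↥W ⧸ P) ≃ₗ[O] κ := ((LinearMap.toSpanSingleton O _ x).quotKerEquivOfSurjective hsurj).symm.trans
    ((Submodule.quotEquivOfEq _ _ (hk.trans hk'.symm)).trans
      ((Algebra.linearMap O κ).quotKerEquivOfSurjective hκ))
  refine ⟨P.map W.subtype, e.toLinearMap ∘ₗ P.mkQ, e.surjective.comp (Submodule.mkQ_surjective P), ?_,
    W.map_subtype_le P⟩
  rw [LinearMap.ker_comp, LinearEquiv.ker, Submodule.comap_bot, Submodule.ker_mkQ,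
    Submodule.comap_map_eq_of_injective Subtype.val_injective]

/-- Modules of finite length have framings. -/
theorem exists_framing (n : ℕ) : ∀ (W : Submodule O V), Module.length O W = n →
    Nonempty (Framing (κ := κ) W) := by
  induction n using Nat.strong_induction_on with
  | _ n ih =>
    intro W hn
    by_cases hW : W = ⊥
    · subst hW; exact ⟨.nil⟩
    have hfl : IsFiniteLength O W := Module.length_ne_top_iff.1 (by rw [hn]; exact ENat.coe_ne_top n)
    have : IsNoetherian O W := (isFiniteLength_iff_isNoetherian_isArtinian.1 hfl).1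
    obtain ⟨W', φ, hs, hker, hle⟩ := exists_step hκ W hW
    have h := length_step φ hs hker hle
    rw [hn, length_κ hκ] at h
    have hne : Module.length O W' ≠ ⊤ := fun e => by rw [e, top_add] at h; exact ENat.coe_ne_top n h
    obtain ⟨m, hm⟩ := ENat.ne_top_iff_exists.1 hne
    rw [← hm] at h
    have h' : n = m + 1 := by exact_mod_cast h
    obtain ⟨e⟩ := ih m (by omega) W' hm.symm
    exact ⟨.cons φ hs hker hle e⟩

/-- Two framings differ by the order of a scalar. -/
theorem exists_rel (n : ℕ) : ∀ (W : Submodule O V), Module.length O W = n →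
    ∀ e e' : Framing (κ := κ) W, ∃ f : κ, f ≠ 0 ∧ Rel e e' f := by
  induction n using Nat.strong_induction_on with
  | _ n ih =>
    intro W hn e e'
    have hbot : ∀ {X X' : Submodule O V} (φ : ↥X →ₗ[O] κ), Function.Surjective φ → X' ≤ X → X ≠ ⊥ := by
      intro X X' φ hs _ h0
      obtain ⟨⟨x, hx⟩, hx1⟩ := hs 1
      subst h0
      have : (⟨x, hx⟩ : ↥(⊥ : Submodule O V)) = 0 := Subtype.ext ((Submodule.mem_bot O).1 hx)
      rw [this, map_zero] at hx1
      exact zero_ne_one hx1
    cases e with
    | nil =>
      cases e' with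
      | nil => exact ⟨1, one_ne_zero, fun R _ _ _ _ _ _ _ _ hg N _ => by rw [ω_one, add_zero]⟩
      | cons φ hs hker hle e1 => exact absurd rfl (hbot φ hs hle)
    | @cons _ W1 φ hs hker hle e1 =>
      cases e' with
      | nil => exact absurd rfl (hbot φ hs hle)
      | @cons _ W2 ψ hs' hker' hle' e2 =>
        have hlen : ∀ {W' : Submodule O V} (χ : ↥W →ₗ[O] κ), Function.Surjective χ →
            LinearMap.ker χ = W'.comap W.subtype → W' ≤ W → ∃ m < n, Module.length O W' = m := by
          intro W' χ a b c
          have h := length_step χ a b c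
          rw [hn, length_κ hκ] at h
          have hne : Module.length O W' ≠ ⊤ := fun e => by rw [e, top_add] at h; exact ENat.coe_ne_top n h
          obtain ⟨m, hm⟩ := ENat.ne_top_iff_exists.1 hne
          rw [← hm] at h
          have h' : n = m + 1 := by exact_mod_cast h
          exact ⟨m, by omega, hm.symm⟩
        obtain ⟨m1, hm1n, hm1⟩ := hlen φ hs hker hle
        obtain ⟨m2, hm2n, hm2⟩ := hlen ψ hs' hker' hle'
        by_cases hW : W1 = W2
        · subst hW
          obtain ⟨f, hf, hrel⟩ := ih m1 hm1n W1 hm1 e1 e2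
          obtain ⟨w0, hw0⟩ := hs 1
          let c := ψ w0
          have hc : c ≠ 0 := by
            intro h0
            have : φ w0 = 0 := by
              rw [← LinearMap.mem_ker, hker, ← hker']
              exact h0
            exact one_ne_zero (hw0.symm.trans this)
          have hφψ : ∀ w, ψ w = c * φ w := by
            intro w
            obtain ⟨o, ho⟩ := hκ (φ w)
            have h1 : φ (w - o • w0) = 0 := by rw [map_sub, map_smul, hw0, Algebra.smul_def, ho, mul_one, sub_self]
            have h2 : ψ (w - o • w0) = 0 := by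
              rw [← LinearMap.mem_ker, hker', ← hker]; exact h1
            rw [map_sub, map_smul, sub_eq_zero, Algebra.smul_def, ho, mul_comm] at h2
            exact h2
          refine ⟨f * c⁻¹, mul_ne_zero hf (inv_ne_zero hc), fun R _ _ _ _ _ _ _ _ hg N hN => ?_⟩
          have himg : img R ψ N = (img R φ N).map ((LinearMap.mul κ κ c).restrictScalars R) := by
            ext x
            simp only [Submodule.mem_map, mem_img]
            constructor
            · rintro ⟨w, hw, hwN, rfl⟩; exact ⟨_, ⟨w, hw, hwN, rfl⟩, (hφψ _).symm⟩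
            · rintro ⟨_, ⟨w, hw, hwN, rfl⟩, rfl⟩; exact ⟨w, hw, hwN, hφψ _⟩
          have hcc : ω R c + ω R c⁻¹ = 0 := by
            rw [← ω_mul hg hc (inv_ne_zero hc), mul_inv_cancel₀ hc, ω_one]
          rw [d, d, himg, idx_scale hg hc (img_fg φ hN.fg) (img_ne_bot hs hN),
            hrel R hg N (hN.mono hle), ω_mul hg hf (inv_ne_zero hc)]
          linarith
        · let U := W1 ⊓ W2
          have hmax : ∀ {A : Submodule O V} (χ : ↥W →ₗ[O] κ), LinearMap.ker χ = A.comap W.subtype →
              A ≤ W → ∀ w (hw : w ∈ W), χ ⟨w, hw⟩ = 0 ↔ w ∈ A := by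
            intro A χ h _ w hw
            rw [← LinearMap.mem_ker, h]
            rfl
          have key : ∀ {A B : Submodule O V} (χ η : ↥W →ₗ[O] κ), Function.Surjective χ →
              LinearMap.ker χ = A.comap W.subtype → ∀ hAW : A ≤ W, LinearMap.ker η = B.comap W.subtype →
              B ≤ W → Function.Surjective η → A ≠ B →
              Function.Surjective (η ∘ₗ Submodule.inclusion hAW) := by
            intro A B χ η hχ hA hAW hB hBW hη hne
            obtain ⟨a, haA, haB⟩ : ∃ a ∈ A, a ∉ B := by
              by_contra hcon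
              push Not at hcon
              refine hne (le_antisymm hcon fun b hb => ?_)
              obtain ⟨b0, hb0⟩ := hη 1
              by_contra hbA
              obtain ⟨o, ho⟩ := hκ (χ b0 * (χ ⟨b, hBW hb⟩)⁻¹)
              have hχb : χ ⟨b, hBW hb⟩ ≠ 0 := fun h => hbA ((hmax χ hA hAW b _).1 h)
              have h1 : χ (b0 - o • ⟨b, hBW hb⟩) = 0 := by
                rw [map_sub, map_smul, Algebra.smul_def, ho, mul_assoc, inv_mul_cancel₀ hχb, mul_one, sub_self]
              have h2 := hcon _ ((hmax χ hA hAW _ (b0 - o • (⟨b, hBW hb⟩ : ↥W)).2).1 h1)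
              have h3 := (hmax η hB hBW _ (b0 - o • (⟨b, hBW hb⟩ : ↥W)).2).2 h2
              rw [Subtype.coe_eta, map_sub, map_smul, (hmax η hB hBW b _).2 hb, smul_zero, sub_zero, hb0] at h3
              exact one_ne_zero h3
            intro z
            obtain ⟨o, ho⟩ := hκ (z * (η ⟨a, hAW haA⟩)⁻¹)
            have hηa : η ⟨a, hAW haA⟩ ≠ 0 := fun h => haB ((hmax η hB hBW a _).1 h)
            refine ⟨o • ⟨a, haA⟩, ?_⟩
            change η (Submodule.inclusion hAW (o • ⟨a, haA⟩)) = z
            rw [map_smul, map_smul, Algebra.smul_def, ho]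
            change z * (η ⟨a, hAW haA⟩)⁻¹ * η ⟨a, hAW haA⟩ = z
            field_simp
          have hs12 := key φ ψ hs hker hle hker' hle' hs' hW
          have hs21 := key ψ φ hs' hker' hle' hker hle hs (Ne.symm hW)
          have hker12 : LinearMap.ker (ψ ∘ₗ Submodule.inclusion hle) = U.comap W1.subtype := by
            ext ⟨x, hx⟩
            exact (hmax ψ hker' hle' x (hle hx)).trans ⟨fun h => ⟨hx, h⟩, fun h => h.2⟩
          have hker21 : LinearMap.ker (φ ∘ₗ Submodule.inclusion hle') = U.comap W2.subtype := by
            ext ⟨x, hx⟩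
            exact (hmax φ hker hle x (hle' hx)).trans ⟨fun h => ⟨h, hx⟩, fun h => h.1⟩
          have hlU : ∃ m : ℕ, Module.length O U = m := by
            have := length_step _ hs12 hker12 inf_le_left
            rw [hm1, length_κ hκ] at this
            have hne : Module.length O U ≠ ⊤ := fun e => by rw [e, top_add] at this; exact ENat.coe_ne_top m1 this
            obtain ⟨m, hm⟩ := ENat.ne_top_iff_exists.1 hne
            exact ⟨m, hm.symm⟩
          obtain ⟨mU, hmU⟩ := hlU
          obtain ⟨eU⟩ := exists_framing hκ mU U hmU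
          let a1 : Framing (κ := κ) W1 := .cons _ hs12 hker12 inf_le_left eU
          let a2 : Framing (κ := κ) W2 := .cons _ hs21 hker21 inf_le_right eU
          obtain ⟨f1, hf1, r1⟩ := ih m1 hm1n W1 hm1 e1 a1
          obtain ⟨f2, hf2, r2⟩ := ih m2 hm2n W2 hm2 a2 e2
          refine ⟨f1 * f2, mul_ne_zero hf1 hf2, fun R _ _ _ _ _ _ _ _ hg N hN => ?_⟩
          let A1 := N ⊓ W1.restrictScalars R
          let A2 := N ⊓ W2.restrictScalars R
          let N' := A1 ⊔ A2
          have hN' : IsLat (κ := κ) R W N' := by
            refine ⟨(hN.inter hle).fg.sup (hN.inter hle').fg, fun w hw => ?_⟩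
            obtain ⟨v0, hv0⟩ := hs12 (ψ ⟨w, hw⟩)
            have hv : (w - v0 : V) ∈ W2 := by
              refine (hmax ψ hker' hle' _ (sub_mem hw (hle v0.2))).1 ?_
              rw [show (⟨w - v0, sub_mem hw (hle v0.2)⟩ : ↥W) = ⟨w, hw⟩ - Submodule.inclusion hle v0 from rfl,
                map_sub, sub_eq_zero]
              exact hv0.symm
            obtain ⟨s1, hs1, h1⟩ := (hN.inter hle).full _ v0.2
            obtain ⟨s2, hs2, h2⟩ := (hN.inter hle').full _ hv
            refine ⟨s1 * s2, fun h => ?_, ?_⟩
            · rw [RingHom.mem_ker, map_mul, mul_eq_zero] at h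
              exact h.elim (fun h => hs1 h) (fun h => hs2 h)
            · rw [show w = (v0 : V) + (w - v0) from (add_sub_cancel _ _).symm, smul_add]
              refine add_mem (Submodule.mem_sup_left ?_) (Submodule.mem_sup_right ?_)
              · rw [mul_comm, mul_smul]; exact A1.smul_mem _ h1
              · rw [mul_smul]; exact A2.smul_mem _ h2
          have hN'N : N' ≤ N := sup_le inf_le_left inf_le_left
          have q1 := (relLen_lat hg (.cons φ hs hker hle a1) hN'N hN hN').2
          have q2 := (relLen_lat hg (.cons ψ hs' hker' hle' a2) hN'N hN hN').2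
          have i1 : ∀ (A B : Submodule O V) (hAW : A ≤ W) (hBW : B ≤ W) (χ η : ↥W →ₗ[O] κ),
              LinearMap.ker χ = A.comap W.subtype → LinearMap.ker η = B.comap W.subtype →
              ∀ M : Submodule R V, M = (N ⊓ A.restrictScalars R) ⊔ (N ⊓ B.restrictScalars R) →
              img R (χ ∘ₗ Submodule.inclusion hBW) M = img R χ M := by
            intro A B hAW hBW χ η hA hB M hM
            ext z
            simp only [mem_img]
            constructor
            · rintro ⟨w, hw, hwM, rfl⟩; exact ⟨w, hBW hw, hwM, rfl⟩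
            · rintro ⟨w, hw, hwM, rfl⟩
              rw [hM] at hwM
              obtain ⟨a, ha, b, hb, rfl⟩ := Submodule.mem_sup.1 hwM
              refine ⟨b, hb.2, hM ▸ Submodule.mem_sup_right hb, ?_⟩
              rw [show (⟨a + b, hw⟩ : ↥W) = ⟨a, hAW ha.2⟩ + ⟨b, hBW hb.2⟩ from rfl, map_add,
                (hmax χ hA hAW a _).2 ha.2, zero_add]
              rfl
          have p1 : img R (φ ∘ₗ Submodule.inclusion hle') N' = img R φ N' :=
            i1 W1 W2 hle hle' φ ψ hker hker' N' rfl
          have p2 : img R (ψ ∘ₗ Submodule.inclusion hle) N' = img R ψ N' :=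
            i1 W2 W1 hle' hle ψ φ hker' hker N' (sup_comm _ _)
          have heq : d R (Framing.cons φ hs hker hle a1) N' = d R (Framing.cons ψ hs' hker' hle' a2) N' := by
            simp only [a1, a2, d, p1, p2]
            ring
          have r1' := r1 R hg N (hN.mono hle)
          have r2' := r2 R hg N (hN.mono hle')
          simp only [d] at q1 q2 ⊢
          simp only [d] at heq
          rw [ω_mul hg hf1 hf2]
          linarith

end Groth.Agent.Cyc90.Frame
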