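import Groth.Agent.Cyc90.Frame.Local

/-! Functoriality of the lattices, the order of a scalar, independence of the point set. -/

set_option autoImplicit false
set_option backward.isDefEq.respectTransparency.types false
set_option linter.style.haveILetI false
universe u

open CategoryTheory AlgebraicGeometry IsLocalRing

namespace Groth.Agent.Cyc90.Frame

attribute [local instance] algRes

variable {X : Scheme.{u}} {F G : X.Modules} {δ : X → ℤ} {k : ℤ}

/-- A map of modules at a generization. -/
noncomputable def stMap (φ : F ⟶ G) {x ξ : X} (h : ξ ⤳ x) :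
    St F h →ₗ[X.presheaf.stalk ξ] St G h :=
  QC70.stalkLinear φ ξ

lemma stMap_spL (φ : F ⟶ G) {x ξ : X} (h : ξ ⤳ x) (m : F.presheaf.stalk x) :
    stMap φ h (spL F h m) = spL G h (QC70.stalkLinear φ x m) :=
  congr($(TopCat.Presheaf.stalkSpecializes_stalkFunctor_map φ.mapPresheaf h).hom m)

lemma ordAt_eq_neg_ω (hX : Cyc.IsSetup X δ) {x ξ : X} (h : ξ ⤳ x) (hd : δ x + 1 = δ ξ)
    (f : X.residueField ξ) (hf : f ≠ 0) :
    letI := algK h
    ω (X.presheaf.stalk x) f = - Cyc.ordAt x ξ h f := by
  have := hX.1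
  letI := algO h
  letI := algK h
  haveI := tower h
  have hg := isGood hX h hd
  let A := X.presheaf.stalk x
  have key : ∀ a : A, algebraMap A (X.residueField ξ) a ≠ 0 →
      ω A (algebraMap A (X.residueField ξ) a) = - Cyc.ordAt x ξ h (algebraMap A (X.residueField ξ) a) := by
    intro a ha
    let f₀ : A →ₗ[A] X.residueField ξ := Algebra.linearMap A (X.residueField ξ)
    let q := RingHom.ker (algebraMap A (X.residueField ξ))
    have hle : Submodule.span A {algebraMap A (X.residueField ξ) a} ≤ one A := by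
      rw [Submodule.span_singleton_le_iff_mem]
      exact Submodule.mem_span_singleton.2 ⟨a, (Algebra.smul_def a 1).trans (mul_one _)⟩
    have e1 : (one A : Submodule A (X.residueField ξ)) = Submodule.map f₀ (⊤ : Submodule A A) := by
      rw [Submodule.map_top]
      ext y
      simp [f₀, Submodule.mem_span_singleton, Algebra.smul_def]
    have e2 : Submodule.span A {algebraMap A (X.residueField ξ) a} =
        Submodule.map f₀ (q ⊔ Ideal.span {a}) := by
      rw [Submodule.map_sup, show Submodule.map f₀ q = ⊥ from eq_bot_iff.2 (Submodule.map_le_iff_le_comap.2 le_rfl),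
        bot_sup_eq, ← Ideal.submodule_span_eq, Submodule.map_span, Set.image_singleton]
      rfl
    have hrel : relLen (one A) (Submodule.span A {algebraMap A (X.residueField ξ) a}) =
        Module.length A (A ⧸ (q ⊔ Ideal.span {a})) := by
      rw [e1, e2, ← relLen_top, relLen_map f₀ (le_top : q ⊔ Ideal.span {a} ≤ ⊤), top_inf_eq,
        show (q ⊔ Ideal.span {a}) ⊓ LinearMap.ker f₀ = LinearMap.ker f₀ from inf_eq_right.2 le_sup_left,
        relLen_self, add_zero]
    have h0 : Ideal.Quotient.mk (RingHom.ker (Cyc.specMap x ξ h)) a ≠ 0 := fun e =>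
      ha (RingHom.mem_ker.1 (Ideal.Quotient.eq_zero_iff_mem.1 e))
    have h1 : ringKrullDim (Cyc.LocQuot x ξ h) ≤ 1 :=
      ringKrullDim_locQuot_le_one _ fun w a b => immediate hX.2.2 h hd a b
    have := krullDimLE_one h1
    rw [ω, idx, inf_eq_left.2 hle, zl_self, zero_sub, zl, hrel, Cyc.ordAt,
      show algebraMap A (X.residueField ξ) a = algebraMap (Cyc.LocQuot x ξ h) _ (Ideal.Quotient.mk _ a) from rfl,
      Len90.ordFrac_algebraMap _ h0, ord_quot_mk]
    rfl
  obtain ⟨a, s, hs, e⟩ := hg.surj f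
  have hs' : algebraMap A (X.residueField ξ) s ≠ 0 := fun e => hs (RingHom.mem_ker.2 e)
  have h3 := ω_mul hg hf hs'
  rw [e, key a (e ▸ mul_ne_zero hf hs'), key s hs'] at h3
  have h2 := ordAt_mul hX h hd f (algebraMap A (X.residueField ξ) s) hf hs'
  rw [e] at h2
  linarith

variable (F)

/-- `dF` is the value of some framing. -/
lemma exists_dF_eq {x ξ : X} (h : ξ ⤳ x) (hne : Nonempty (Framing (O := X.presheaf.stalk ξ)
      (κ := X.residueField ξ) (⊤ : Submodule (X.presheaf.stalk ξ) (St F h)))) :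
    letI := algO h; letI := algK h
    haveI := tower h; haveI := towerSt F h
    dF F h = d (X.presheaf.stalk x) hne.some (latN F h) := by
  rw [dF]
  exact dif_pos hne

lemma latN_eq_bot {x ξ : X} (h : ξ ⤳ x) (hs : Subsingleton (F.presheaf.stalk ξ)) :
    Subsingleton ↥(latN F h) :=
  ⟨fun a b => Subtype.ext (@Subsingleton.elim _ hs a.1 b.1)⟩

lemma dF_eq_zero {x ξ : X} (h : ξ ⤳ x) (hs : Subsingleton (F.presheaf.stalk ξ)) : dF F h = 0 := by
  classical
  letI := algO h; letI := algK h
  haveI := tower h; haveI := towerSt F h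
  by_cases hne : Nonempty (Framing (O := X.presheaf.stalk ξ) (κ := X.residueField ξ)
      (⊤ : Submodule (X.presheaf.stalk ξ) (St F h)))
  swap
  · rw [dF]; exact dif_neg hne
  rw [exists_dF_eq F h hne]
  suffices key : ∀ (W : Submodule (X.presheaf.stalk ξ) (St F h))
      (e : Framing (κ := X.residueField ξ) W), d (X.presheaf.stalk x) e (latN F h) = 0 from key _ _
  intro W e
  induction e with
  | nil => rfl
  | @cons W W' φ hsur hker hle e' ih =>
    obtain ⟨⟨w, hw⟩, e1⟩ := hsur 1
    have : (⟨w, hw⟩ : ↥W) = 0 := Subtype.ext (@Subsingleton.elim _ hs w 0)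
    rw [this, map_zero] at e1
    exact absurd e1 zero_ne_one

variable {F}

/-- The class does not depend on the point set. -/
theorem cS_eq_of_subset {x : X} {S S' : Finset (Pt δ k x)} (hSS : S ⊆ S')
    (h0 : ∀ i ∈ S', i ∉ S → Subsingleton (F.presheaf.stalk i.1)) :
    cS F δ k S' = cS F δ k S := by
  classical
  let q : ((i : S') → ↥(latN F i.1.2.1)) →ₗ[X.presheaf.stalk x] ((i : S) → ↥(latN F i.1.2.1)) :=
    LinearMap.pi fun i => LinearMap.proj (⟨i.1, hSS i.2⟩ : S')
  have hq : Function.Bijective q := by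
    constructor
    · intro a b e
      funext i
      by_cases hi : i.1 ∈ S
      · exact congrFun e ⟨i.1, hi⟩
      · exact @Subsingleton.elim _ (latN_eq_bot F _ (h0 i.1 i.2 hi)) _ _
    · intro b
      refine ⟨fun i => if hi : i.1 ∈ S then b ⟨i.1, hi⟩ else 0, ?_⟩
      funext i
      exact dif_pos i.2
  have hchi : chi (hmap F δ k S') = chi (hmap F δ k S) := by
    rw [show hmap F δ k S = (LinearEquiv.ofBijective q hq).toLinearMap ∘ₗ hmap F δ k S' from rfl,
      chi_comp_equiv]
  rw [cS, cS, hchi, add_right_inj]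
  exact (Finset.sum_subset hSS fun i hi hiS => dF_eq_zero F i.2.1 (h0 i hi hiS)).symm

theorem cF_eq (hX : Cyc.IsSetup X δ) (hF : Cyc.CohLe δ (k + 1) F) {x : X} (hx : δ x = k)
    {S : Finset (Pt δ k x)} (hS : suppPts F δ k x ⊆ S) : cF F δ k x = cS F δ k S := by
  rw [cF, if_pos hx]
  exact (cS_eq_of_subset hS fun i _ hi => subsingleton_of_notMem hX hF hx hi).symm

/-- On modules of dimension at most `k` the class is the cycle. -/
theorem cF_eq_sheafFun (hX : Cyc.IsSetup X δ) (hF : Cyc.CohLe δ k F) :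
    cF F δ k = Cyc.sheafFun δ k F := by
  classical
  funext x
  by_cases hx : δ x = k
  swap
  · rw [cF, if_neg hx, Cyc.sheafFun, if_neg hx]
  have hF' : Cyc.CohLe δ (k + 1) F := ⟨hF.1, fun y hy => by have := hF.2 y hy; omega⟩
  have hemp : suppPts F δ k x ⊆ ∅ := fun i hi => by
    rw [suppPts, dif_pos (finite_supp hX hF' x hx), Set.Finite.mem_toFinset] at hi
    have := hF.2 i.1 hi
    have := i.2.2
    omega
  rw [cF_eq hX hF' hx hemp, Cyc.sheafFun, if_pos hx, cS, Finset.sum_empty, add_zero, chi]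
  have hk : LinearMap.ker (hmap F δ k (∅ : Finset (Pt δ k x))) = ⊤ :=
    eq_top_iff.2 fun m _ => LinearMap.mem_ker.2 (funext fun i => absurd i.2 (Finset.notMem_empty _))
  have : Subsingleton ((i : (∅ : Finset (Pt δ k x))) → ↥(latN F i.1.2.1)) :=
    ⟨fun a b => funext fun i => absurd i.2 (Finset.notMem_empty _)⟩
  rw [hk, Submodule.topEquiv.length_eq,
    Module.length_eq_zero (M := ((i : (∅ : Finset (Pt δ k x))) → ↥(latN F i.1.2.1)) ⧸ _)]
  simp

end Groth.Agent.Cyc90.Frame
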