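import Groth.Agent.Cyc90.Frame.RelLen
import Mathlib.RingTheory.Localization.AtPrime.Basic
import Mathlib.RingTheory.Artinian.Module
import Mathlib.RingTheory.HopkinsLevitzki
import Mathlib.RingTheory.SimpleModule.Basic

/-! Framings of modules of finite length and the lattice functions they define. -/

set_option autoImplicit false
universe u

namespace Groth.Agent.Cyc90.Frame

variable {O κ : Type u} [CommRing O] [Field κ] [Algebra O κ] {V : Type u} [AddCommGroup V]
  [Module O V]

/-- A chain of submodules with successive quotients identified with `κ`. -/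
inductive Framing : Submodule O V → Type u
  | nil : Framing ⊥
  | cons {W W' : Submodule O V} (φ : ↥W →ₗ[O] κ) (hs : Function.Surjective φ)
      (hker : LinearMap.ker φ = W'.comap W.subtype) (hle : W' ≤ W) (e : Framing W') : Framing W

/-- The localization of a one-dimensional local ring at a prime. -/
structure IsGood (R O κ : Type u) [CommRing R] [IsLocalRing R] [CommRing O] [Field κ] [Algebra R O]
    [Algebra R κ] : Prop where
  exists_num : ∀ z : O, ∃ (a s : R), s ∉ RingHom.ker (algebraMap R κ) ∧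
    z * algebraMap R O s = algebraMap R O a
  isUnit : ∀ s : R, s ∉ RingHom.ker (algebraMap R κ) → IsUnit (algebraMap R O s)
  surj : ∀ f : κ, ∃ (a s : R), s ∉ RingHom.ker (algebraMap R κ) ∧
    f * algebraMap R κ s = algebraMap R κ a
  dim : ∀ p : Ideal R, p.IsPrime → RingHom.ker (algebraMap R κ) ≤ p →
    p = RingHom.ker (algebraMap R κ) ∨ p = IsLocalRing.maximalIdeal R

section

variable (R : Type u) [CommRing R] [Algebra R O] [Algebra R κ] [IsScalarTower R O κ]
  [Module R V] [IsScalarTower R O V]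

/-- The reference lattice in `κ`. -/
noncomputable abbrev one : Submodule R κ := Submodule.span R {(1 : κ)}

/-- The image in `κ` of a step. -/
noncomputable def img {W : Submodule O V} (φ : ↥W →ₗ[O] κ) (N : Submodule R V) : Submodule R κ :=
  (N.comap (W.subtype.restrictScalars R)).map (φ.restrictScalars R)

/-- The lattice function of a framing. -/
noncomputable def d : {W : Submodule O V} → Framing (κ := κ) W → Submodule R V → ℤ
  | _, .nil, _ => 0
  | _, .cons φ _ _ _ e, N => idx (img R φ N) (one R) + d e N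

/-- `ω f` is minus the order of `f`. -/
noncomputable def ω (f : κ) : ℤ := idx (Submodule.span R {f}) (one R)

/-- A lattice in `W`. -/
structure IsLat (W : Submodule O V) (N : Submodule R V) : Prop where
  fg : N.FG
  full : ∀ w ∈ W, ∃ s : R, s ∉ RingHom.ker (algebraMap R κ) ∧ s • w ∈ N

lemma mem_img {W : Submodule O V} {φ : ↥W →ₗ[O] κ} {N : Submodule R V} {c : κ} :
    c ∈ img R φ N ↔ ∃ (w : V) (hw : w ∈ W), w ∈ N ∧ φ ⟨w, hw⟩ = c := by
  constructor
  · rintro ⟨⟨w, hw⟩, hN, rfl⟩; exact ⟨w, hw, hN, rfl⟩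
  · rintro ⟨w, hw, hN, rfl⟩; exact ⟨⟨w, hw⟩, hN, rfl⟩

lemma d_congr {W : Submodule O V} (e : Framing (κ := κ) W) {N N' : Submodule R V}
    (h : ∀ w ∈ W, w ∈ N ↔ w ∈ N') : d R e N = d R e N' := by
  induction e with
  | nil => rfl
  | cons φ hs hker hle e ih =>
    rw [d, d, ih fun w hw => h w (hle hw)]
    congr 2
    ext c
    simp only [mem_img]
    exact ⟨fun ⟨w, hw, a, b⟩ => ⟨w, hw, (h w hw).1 a, b⟩, fun ⟨w, hw, a, b⟩ => ⟨w, hw, (h w hw).2 a, b⟩⟩

variable [IsLocalRing R] [IsNoetherianRing R]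

variable {R}

lemma IsLat.mono {W W' : Submodule O V} {N : Submodule R V} (h : IsLat (κ := κ) R W N) (hle : W' ≤ W) :
    IsLat (κ := κ) R W' N :=
  ⟨h.fg, fun w hw => h.full w (hle hw)⟩

lemma fg_of_le {A B : Submodule R V} (hA : A.FG) (h : B ≤ A) : B.FG := by
  have : IsNoetherian R ↥A := isNoetherian_of_fg_of_noetherian A hA
  have h1 := (IsNoetherian.noetherian (B.comap A.subtype)).map A.subtype
  rwa [Submodule.map_comap_subtype, inf_eq_right.2 h] at h1

lemma IsLat.inter {W W' : Submodule O V} {N : Submodule R V} (h : IsLat (κ := κ) R W N) (hle : W' ≤ W) :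
    IsLat (κ := κ) R W' (N ⊓ W'.restrictScalars R) := by
  refine ⟨fg_of_le h.fg inf_le_left, fun w hw => ?_⟩
  obtain ⟨s, hs, hN⟩ := h.full w (hle hw)
  refine ⟨s, hs, hN, ?_⟩
  change s • w ∈ W'
  rw [← algebraMap_smul O s w]
  exact W'.smul_mem _ hw

lemma img_fg {W : Submodule O V} (φ : ↥W →ₗ[O] κ) {N : Submodule R V} (h : N.FG) : (img R φ N).FG := by
  refine Submodule.FG.map _ (Submodule.fg_of_fg_map_injective (W.subtype.restrictScalars R)
    Subtype.val_injective ?_)
  exact fg_of_le h (Submodule.map_comap_le _ _)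

lemma img_ne_bot {W : Submodule O V} {φ : ↥W →ₗ[O] κ} (hφ : Function.Surjective φ)
    {N : Submodule R V} (h : IsLat (κ := κ) R W N) : img R φ N ≠ ⊥ := by
  obtain ⟨⟨w, hw⟩, e⟩ := hφ 1
  obtain ⟨s, hs, hN⟩ := h.full w hw
  intro h0
  have hsw : s • w ∈ W := by rw [← algebraMap_smul O s w]; exact W.smul_mem _ hw
  have : φ ⟨s • w, hsw⟩ ∈ img R φ N := (mem_img R).2 ⟨_, hsw, hN, rfl⟩
  rw [h0, Submodule.mem_bot] at this
  have h1 : φ ⟨s • w, hsw⟩ = algebraMap R κ s := by
    rw [show (⟨s • w, hsw⟩ : ↥W) = (algebraMap R O s) • ⟨w, hw⟩ from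
      Subtype.ext (algebraMap_smul O s w).symm, map_smul, e, Algebra.smul_def, mul_one,
      ← IsScalarTower.algebraMap_apply]
  exact hs (RingHom.mem_ker.2 (h1.symm.trans this))

variable (hg : IsGood R O κ)
include hg

/-- Finitely generated nonzero submodules of `κ` are commensurable. -/
lemma relLen_ne_top {A B : Submodule R κ} (hA : A.FG) (hB : B ≠ ⊥) (hBA : B ≤ A) : relLen A B ≠ ⊤ := by
  classical
  obtain ⟨b, hb, hb0⟩ := (Submodule.ne_bot_iff _).1 hB
  let q := RingHom.ker (algebraMap R κ)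
  have : q.IsPrime := RingHom.ker_isPrime _
  obtain ⟨S, hS⟩ := hA
  choose a s hs has using fun x : κ => hg.surj (x / b)
  let t := ∏ x ∈ S, s x
  have ht : t ∉ q := by
    intro h
    obtain ⟨x, -, hx⟩ := Ideal.IsPrime.prod_mem_iff.1 h
    exact hs x hx
  have htA : ∀ x ∈ A, t • x ∈ B := by
    suffices A ≤ B.comap (LinearMap.lsmul R κ t) from fun x hx => this hx
    rw [← hS, Submodule.span_le]
    intro x hx
    obtain ⟨c, hc⟩ := Finset.dvd_prod_of_mem s hx
    change t • x ∈ B
    rw [show t = s x * c from hc, mul_comm, mul_smul]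
    refine B.smul_mem _ ?_
    have : s x • x = a x • b := by
      rw [Algebra.smul_def, Algebra.smul_def, ← has x]
      field_simp
    rw [this]
    exact B.smul_mem _ hb
  let I : Ideal R := q ⊔ Ideal.span {t}
  have hI : ∀ r ∈ I, ∀ x ∈ A, r • x ∈ B := by
    intro r hr x hx
    obtain ⟨u, hu, v, hv, rfl⟩ := Submodule.mem_sup.1 hr
    obtain ⟨w, rfl⟩ := Ideal.mem_span_singleton.1 hv
    rw [add_smul, Algebra.smul_def u, RingHom.mem_ker.1 hu, zero_mul, zero_add, mul_comm, mul_smul]
    exact B.smul_mem _ (htA x hx)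
  have hmax : ∀ p : Ideal R, p.IsPrime → I ≤ p → p = IsLocalRing.maximalIdeal R := by
    intro p hp hIp
    rcases hg.dim p hp (le_sup_left.trans hIp) with e | e
    · refine absurd ?_ ht
      change t ∈ RingHom.ker (algebraMap R κ)
      rw [← e]
      exact hIp (Submodule.mem_sup_right (Ideal.mem_span_singleton_self t))
    · exact e
  let Q := ↥A ⧸ B.comap A.subtype
  have : Module.Finite R ↥A := Module.Finite.iff_fg.2 ⟨S, hS⟩
  have : Module.Finite R Q := Module.Finite.quotient _ _
  have hQ : Module.IsTorsionBySet R Q (I : Set R) := by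
    intro y r
    obtain ⟨y, rfl⟩ := Submodule.Quotient.mk_surjective _ y
    rw [← Submodule.Quotient.mk_smul]
    exact (Submodule.Quotient.mk_eq_zero _).2 (hI r.1 r.2 y.1 y.2)
  letI : Module (R ⧸ I) Q := hQ.module
  have : IsScalarTower R (R ⧸ I) Q := hQ.isScalarTower
  have : Ring.KrullDimLE 0 (R ⧸ I) := Ring.KrullDimLE.mk₀ fun P hP => by
    have h1 := hmax (P.comap (Ideal.Quotient.mk I)) inferInstance
      (le_of_eq_of_le Ideal.mk_ker.symm (Ideal.comap_mono bot_le))
    have h2 : (P.comap (Ideal.Quotient.mk I)).IsMaximal := h1 ▸ IsLocalRing.maximalIdeal.isMaximal R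
    rw [← Ideal.map_comap_of_surjective _ Ideal.Quotient.mk_surjective P]
    exact (Ideal.map_eq_top_or_isMaximal_of_surjective _ Ideal.Quotient.mk_surjective h2).resolve_left fun h => by
      rw [Ideal.map_comap_of_surjective _ Ideal.Quotient.mk_surjective P] at h
      exact hP.ne_top h
  have : IsNoetherianRing (R ⧸ I) := isNoetherianRing_of_surjective R (R ⧸ I) (Ideal.Quotient.mk I) Ideal.Quotient.mk_surjective
  have : IsArtinianRing (R ⧸ I) := IsNoetherianRing.isArtinianRing_of_krullDimLE_zero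
  have : Module.Finite (R ⧸ I) Q := Module.Finite.of_restrictScalars_finite R _ _
  have hl : Module.length (R ⧸ I) Q ≠ ⊤ := Module.length_ne_top
  rwa [← Module.length_eq_of_surjective (S := R) (R := R ⧸ I) (M := Q) Ideal.Quotient.mk_surjective] at hl

lemma inf_ne_bot {A B : Submodule R κ} (hA : A ≠ ⊥) (hB : B ≠ ⊥) : A ⊓ B ≠ ⊥ := by
  obtain ⟨x, hx, hx0⟩ := (Submodule.ne_bot_iff _).1 hA
  obtain ⟨y, hy, hy0⟩ := (Submodule.ne_bot_iff _).1 hB
  obtain ⟨a, s, hs, he⟩ := hg.surj (x / y)
  have hsx : s • x = a • y := by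
    rw [Algebra.smul_def, Algebra.smul_def, ← he]
    field_simp
  refine (Submodule.ne_bot_iff _).2 ⟨s • x, ⟨A.smul_mem _ hx, hsx ▸ B.smul_mem _ hy⟩, ?_⟩
  rw [Algebra.smul_def]
  exact mul_ne_zero (fun h => hs (RingHom.mem_ker.2 h)) hx0

lemma comm2 {A B : Submodule R κ} (hA : A.FG) (hB : B.FG) (hA0 : A ≠ ⊥) (hB0 : B ≠ ⊥) : Comm2 A B :=
  ⟨relLen_ne_top hg hA (inf_ne_bot hg hA0 hB0) inf_le_left,
    relLen_ne_top hg hB (inf_ne_bot hg hA0 hB0) inf_le_right⟩

omit hg in
lemma span_ne_bot {f : κ} (hf : f ≠ 0) : Submodule.span R {f} ≠ (⊥ : Submodule R κ) := by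
  simpa [Submodule.span_singleton_eq_bot] using hf

/-- Scaling a lattice adds the index of the scalar. -/
lemma idx_scale {f : κ} (hf : f ≠ 0) {A : Submodule R κ} (hA : A.FG) (hA0 : A ≠ ⊥) :
    idx (A.map ((LinearMap.mul κ κ f).restrictScalars R)) (one R) = idx A (one R) + ω R f := by
  have hinj : Function.Injective ((LinearMap.mul κ κ f).restrictScalars R) := fun a b h =>
    mul_left_cancel₀ hf h
  have h1 : (one R).map ((LinearMap.mul κ κ f).restrictScalars R) = Submodule.span R {f} := by
    rw [Submodule.map_span, Set.image_singleton]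
    simp
  have c1 : Comm2 A (one R) := comm2 hg hA (Submodule.fg_span_singleton _) hA0 (span_ne_bot one_ne_zero)
  rw [idx_add (c1.map _ hinj) (h1 ▸ comm2 hg (Submodule.fg_span_singleton _)
    (Submodule.fg_span_singleton _) (span_ne_bot hf) (span_ne_bot one_ne_zero)), idx_map _ hinj, h1]
  rfl

lemma ω_mul {f g : κ} (hf : f ≠ 0) (hg' : g ≠ 0) : ω R (f * g) = ω R f + ω R g := by
  have h := idx_scale hg hf (Submodule.fg_span_singleton g) (span_ne_bot hg')
  rw [Submodule.map_span, Set.image_singleton] at h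
  change idx (Submodule.span R {f * g}) _ = _ at h
  rw [ω, h, add_comm]
  rfl

omit hg in
lemma ω_one : ω R (1 : κ) = 0 := idx_self _

/-- A lattice function is additive on nested lattices. -/
theorem relLen_lat {W : Submodule O V} (e : Framing (κ := κ) W) {A A' : Submodule R V} (hle : A' ≤ A)
    (hA : IsLat (κ := κ) R W A) (hA' : IsLat (κ := κ) R W A') :
    relLen (A ⊓ W.restrictScalars R) (A' ⊓ W.restrictScalars R) ≠ ⊤ ∧
      d R e A = d R e A' + zl (A ⊓ W.restrictScalars R) (A' ⊓ W.restrictScalars R) := by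
  induction e with
  | nil => simp [d]
  | @cons W W' φ hs hker hle' e ih =>
    obtain ⟨h1, h2⟩ := ih (hA.mono hle') (hA'.mono hle')
    let ι := W.subtype.restrictScalars R
    have e1 : relLen (A ⊓ W.restrictScalars R) (A' ⊓ W.restrictScalars R) =
        relLen (A.comap ι) (A'.comap ι) := by
      rw [← relLen_map_of_injective ι Subtype.val_injective (Submodule.comap_mono hle)]
      simp only [Submodule.map_comap_eq, ι, inf_comm]
      congr 1 <;> · congr 1; ext x; simp
    have hk : ∀ N : Submodule R V, (N.comap ι ⊓ LinearMap.ker (φ.restrictScalars R)).map ι =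
        N ⊓ W'.restrictScalars R := by
      intro N
      have hk' : LinearMap.ker (φ.restrictScalars R) = (W'.restrictScalars R).comap ι := by
        ext x
        change φ x = 0 ↔ (x : V) ∈ W'
        rw [← LinearMap.mem_ker, hker]
        rfl
      rw [hk', ← Submodule.comap_inf, Submodule.map_comap_eq, inf_eq_right]
      intro x hx
      exact ⟨⟨x, hle' hx.2⟩, rfl⟩
    have e2 : relLen (A.comap ι ⊓ LinearMap.ker (φ.restrictScalars R))
        (A'.comap ι ⊓ LinearMap.ker (φ.restrictScalars R)) =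
        relLen (A ⊓ W'.restrictScalars R) (A' ⊓ W'.restrictScalars R) := by
      rw [← hk, ← hk, relLen_map_of_injective ι Subtype.val_injective
        (inf_le_inf_right _ (Submodule.comap_mono hle))]
    have himg : img R φ A' ≤ img R φ A := Submodule.map_mono (Submodule.comap_mono hle)
    have h3 : relLen (img R φ A) (img R φ A') ≠ ⊤ :=
      relLen_ne_top hg (img_fg φ hA.fg) (img_ne_bot hs hA') himg
    have key := relLen_map (φ.restrictScalars R) (Submodule.comap_mono (f := ι) hle)
    rw [e2, ← e1] at key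
    change _ = relLen (img R φ A) (img R φ A') + _ at key
    refine ⟨key ▸ WithTop.add_ne_top.2 ⟨h3, h1⟩, ?_⟩
    have hz : zl (A ⊓ W.restrictScalars R) (A' ⊓ W.restrictScalars R) =
        zl (img R φ A) (img R φ A') + zl (A ⊓ W'.restrictScalars R) (A' ⊓ W'.restrictScalars R) := by
      rw [zl, key, ENat.toNat_add h3 h1, Nat.cast_add]; rfl
    have c1 : Comm2 (img R φ A) (img R φ A') :=
      comm2 hg (img_fg φ hA.fg) (img_fg φ hA'.fg) (img_ne_bot hs hA) (img_ne_bot hs hA')
    have c2 : Comm2 (img R φ A') (one R) :=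
      comm2 hg (img_fg φ hA'.fg) (Submodule.fg_span_singleton _) (img_ne_bot hs hA')
        (span_ne_bot one_ne_zero)
    rw [d, d, h2, hz, idx_add c1 c2, idx_of_le himg]
    ring

end

end Groth.Agent.Cyc90.Frame
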