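import Groth.Agent.Cyc90.Frame.Periodic
import Groth.Agent.Cyc90.CycleSheaf

/-! The class map from K₀. -/

set_option autoImplicit false
set_option backward.isDefEq.respectTransparency.types false
universe u

open CategoryTheory CategoryTheory.Limits AlgebraicGeometry

namespace Groth.Agent.Cyc90.Frame

variable {X : Scheme.{u}} {δ : X → ℤ} (hX : Cyc.IsSetup X δ) (k : ℤ)

/-- Functions which are sums of principal divisors. -/
def ratSub : AddSubgroup (X → ℤ) where
  carrier := {F | RatFamIn δ k Set.univ F}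
  add_mem' := fun ha hb => ratFamIn_add isClosed_univ ha hb
  zero_mem' := ratFamIn_zero
  neg_mem' := fun {F} hF => (ratFamIn_smul hX hF (-1)).congr fun x => neg_one_mul (F x)

/-- The class map. -/
noncomputable def cK0 : KZero.K0sub (Cyc.CohLe δ (k + 1)) →+ (X → ℤ) ⧸ ratSub hX k :=
  QuotientAddGroup.lift _
    (FreeAbelianGroup.lift fun F => QuotientAddGroup.mk (cF F.1 δ k))
    (by
      refine (AddSubgroup.closure_le _).2 ?_
      rintro _ ⟨S, h1, h2, h3, hS, rfl⟩
      rw [SetLike.mem_coe, AddMonoidHom.mem_ker, map_sub, map_sub, FreeAbelianGroup.lift_apply_of,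
        FreeAbelianGroup.lift_apply_of, FreeAbelianGroup.lift_apply_of, ← QuotientAddGroup.mk_sub,
        ← QuotientAddGroup.mk_sub, QuotientAddGroup.eq_zero_iff]
      exact cF_shortExact hX hS h2 h1.1 h3.1)

lemma cK0_clSub {F : X.Modules} (hF : Cyc.CohLe δ (k + 1) F) :
    cK0 hX k (KZero.clSub (Cyc.CohLe δ (k + 1)) F) = QuotientAddGroup.mk (cF F δ k) := by
  rw [KZero.clSub, dif_pos hF]
  exact FreeAbelianGroup.lift_apply_of _ _

/-- The class map on the quotient by small modules. -/
noncomputable def cQuot : Cyc.K0CohQuot δ (k + 1) (k - 1) →+ (X → ℤ) ⧸ ratSub hX k :=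
  QuotientAddGroup.lift _ (cK0 hX k) (by
    refine (AddSubgroup.closure_le _).2 ?_
    rintro _ ⟨F, hF, rfl⟩
    have hk : Cyc.CohLe δ k F := ⟨hF.1, fun z hz => (hF.2 z hz).trans (by omega)⟩
    have hk1 : Cyc.CohLe δ (k + 1) F := ⟨hF.1, fun z hz => (hF.2 z hz).trans (by omega)⟩
    rw [SetLike.mem_coe, AddMonoidHom.mem_ker, cK0_clSub hX k hk1, cF_eq_sheafFun hX hk]
    refine (QuotientAddGroup.eq_zero_iff _).2 ?_
    have : Cyc.sheafFun δ k F = fun _ => 0 := by
      funext x
      rw [Cyc.sheafFun]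
      split_ifs with h
      · have : Subsingleton (F.presheaf.stalk x) := not_nontrivial_iff_subsingleton.1 fun hn => by
          have := hF.2 x hn; omega
        rw [Module.length_eq_zero]; rfl
      · rfl
    rw [this]
    exact ratFamIn_zero)

lemma cQuot_to {F : X.Modules} (hF : Cyc.CohLe δ k F) :
    cQuot hX k (Cyc.toK0CohQuot δ (k + 1) (k - 1) F) = QuotientAddGroup.mk (Cyc.sheafFun δ k F) := by
  rw [← cF_eq_sheafFun hX hF]
  exact cK0_clSub hX k ⟨hF.1, fun z hz => (hF.2 z hz).trans (by omega)⟩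

end Groth.Agent.Cyc90.Frame
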