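import Groth.Agent.Cyc90.Frame.PiLen
import Groth.Agent.Cyc90.CohMult
import Groth.Agent.Cyc90.KeyFormula
import Groth.Agent.Cyc90.SheafLen
import Groth.Agent.LC17.KGood
import Groth.Agent.QC70.GenIso
import Groth.Prelude.Def_ChowK

/-! The lattice class of a coherent module at a point. -/

set_option autoImplicit false
set_option backward.isDefEq.respectTransparency.types false
set_option linter.style.haveILetI false
universe u

open CategoryTheory AlgebraicGeometry IsLocalRing

namespace Groth.Agent.Cyc90.Frame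

variable {X : Scheme.{u}}

/-- The residue field as an algebra over the local ring. -/
@[implicit_reducible]
noncomputable def algRes (ξ : X) : Algebra (X.presheaf.stalk ξ) (X.residueField ξ) :=
  (X.residue ξ).hom.toAlgebra

attribute [local instance] algRes

lemma algebraMap_res_surjective (ξ : X) :
    Function.Surjective (algebraMap (X.presheaf.stalk ξ) (X.residueField ξ)) := X.residue_surjective ξ

/-- The stalk at a generization, as a module over both local rings. -/
def St (F : X.Modules) {x ξ : X} (_ : ξ ⤳ x) : Type u := F.presheaf.stalk ξ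

variable (F : X.Modules)

noncomputable instance instAddCommGroupSt {x ξ : X} (h : ξ ⤳ x) : AddCommGroup (St F h) :=
  inferInstanceAs (AddCommGroup (F.presheaf.stalk ξ))

noncomputable instance instModuleStO {x ξ : X} (h : ξ ⤳ x) : Module (X.presheaf.stalk ξ) (St F h) :=
  inferInstanceAs (Module (X.presheaf.stalk ξ) (F.presheaf.stalk ξ))

noncomputable instance instModuleSt {x ξ : X} (h : ξ ⤳ x) : Module (X.presheaf.stalk x) (St F h) :=
  CohMult.specModule F h

/-- The specialization map. -/
noncomputable def spL {x ξ : X} (h : ξ ⤳ x) : F.presheaf.stalk x →ₗ[X.presheaf.stalk x] St F h :=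
  CohMult.specLin F h

lemma spL_apply {x ξ : X} (h : ξ ⤳ x) (m : F.presheaf.stalk x) :
    spL F h m = F.presheaf.stalkSpecializes h m := rfl

/-- The lattice at a specialization. -/
noncomputable def latN {x ξ : X} (h : ξ ⤳ x) : Submodule (X.presheaf.stalk x) (St F h) :=
  LinearMap.range (spL F h)

/-- The algebra structures along a specialization. -/
@[implicit_reducible]
noncomputable def algO {x ξ : X} (h : ξ ⤳ x) : Algebra (X.presheaf.stalk x) (X.presheaf.stalk ξ) :=
  (X.presheaf.stalkSpecializes h).hom.toAlgebra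

/-- The algebra structures along a specialization. -/
@[implicit_reducible]
noncomputable def algK {x ξ : X} (h : ξ ⤳ x) : Algebra (X.presheaf.stalk x) (X.residueField ξ) :=
  (Cyc.specMap x ξ h).toAlgebra

lemma tower {x ξ : X} (h : ξ ⤳ x) :
    letI := algO h; letI := algK h
    IsScalarTower (X.presheaf.stalk x) (X.presheaf.stalk ξ) (X.residueField ξ) :=
  letI := algO h; letI := algK h
  IsScalarTower.of_algebraMap_eq fun _ => rfl

lemma towerSt {x ξ : X} (h : ξ ⤳ x) :
    letI := algO h
    IsScalarTower (X.presheaf.stalk x) (X.presheaf.stalk ξ) (St F h) :=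
  letI := algO h
  IsScalarTower.of_algebraMap_smul fun _ _ => rfl

open Classical in
/-- The value of the chosen framing at a specialization. -/
noncomputable def dF {x ξ : X} (h : ξ ⤳ x) : ℤ :=
  letI := algO h; letI := algK h
  haveI := tower h; haveI := towerSt F h
  if hne : Nonempty (Framing (O := X.presheaf.stalk ξ) (κ := X.residueField ξ)
      (⊤ : Submodule (X.presheaf.stalk ξ) (St F h))) then
    d (X.presheaf.stalk x) (V := St F h) hne.some (latN F h) else 0

variable (δ : X → ℤ) (k : ℤ)

/-- Points one dimension up specializing to `x`. -/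
abbrev Pt (x : X) : Type u := {ξ : X // ξ ⤳ x ∧ δ ξ = k + 1}

/-- The map to the lattices. -/
noncomputable def hmap {x : X} (S : Finset (Pt δ k x)) :
    F.presheaf.stalk x →ₗ[X.presheaf.stalk x] ((i : S) → ↥(latN F i.1.2.1)) :=
  LinearMap.pi fun i => (spL F i.1.2.1).rangeRestrict

/-- The lattice class over a given set of points. -/
noncomputable def cS {x : X} (S : Finset (Pt δ k x)) : ℤ :=
  chi (hmap F δ k S) + ∑ i ∈ S, dF F i.2.1

open Classical in
/-- The points in the support. -/
noncomputable def suppPts (x : X) : Finset (Pt δ k x) :=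
  if h : {i : Pt δ k x | Nontrivial (F.presheaf.stalk i.1)}.Finite then h.toFinset else ∅

/-- The lattice class of a coherent module. -/
noncomputable def cF (x : X) : ℤ := if δ x = k then cS F δ k (suppPts F δ k x) else 0

variable {δ k} (hX : Cyc.IsSetup X δ)
include hX

lemma isGood {x ξ : X} (h : ξ ⤳ x) (hd : δ x + 1 = δ ξ) :
    letI := algO h; letI := algK h
    IsGood (X.presheaf.stalk x) (X.presheaf.stalk ξ) (X.residueField ξ) := by
  letI := algO h; letI := algK h
  have := hX.1
  haveI := isLocalization_genPrime h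
  have hk : RingHom.ker (algebraMap (X.presheaf.stalk x) (X.residueField ξ)) = (genPrime h).asIdeal :=
    ker_specMap h
  refine ⟨fun z => ?_, fun s hs => ?_, fun f => ?_, fun p hp hle => ?_⟩
  · obtain ⟨⟨a, s⟩, e⟩ := IsLocalization.surj (genPrime h).asIdeal.primeCompl z
    exact ⟨a, s, fun h' => s.2 (SetLike.ext_iff.1 hk _ |>.1 h'), e⟩
  · exact IsLocalization.map_units (X.presheaf.stalk ξ) (⟨s, fun h' => hs (SetLike.ext_iff.1 hk _ |>.2 h')⟩ : (genPrime h).asIdeal.primeCompl)
  · obtain ⟨z, rfl⟩ := algebraMap_res_surjective ξ f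
    obtain ⟨⟨a, s⟩, e⟩ := IsLocalization.surj (genPrime h).asIdeal.primeCompl z
    refine ⟨a, s, fun h' => s.2 (SetLike.ext_iff.1 hk _ |>.1 h'), ?_⟩
    exact (map_mul (algebraMap (X.presheaf.stalk ξ) (X.residueField ξ)) _ _).symm.trans
      (congrArg (algebraMap (X.presheaf.stalk ξ) (X.residueField ξ)) e)
  · rw [hk] at hle ⊢
    let q : PrimeSpectrum (X.presheaf.stalk x) := ⟨p, hp⟩
    have hz := fromSpecStalk_specializes q
    have hg : genPrime hz = q := genPrime_fromSpecStalk q
    have h1 : ξ ⤳ X.fromSpecStalk x q := by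
      refine (genPrime_le_iff h hz).1 ?_
      rw [hg]; exact hle
    rcases immediate hX.2.2 h hd h1 hz with e | e
    · left
      refine (congrArg PrimeSpectrum.asIdeal hg).symm.trans (congrArg PrimeSpectrum.asIdeal ?_)
      exact (genPrime_eq_iff hz h).2 e
    · right
      refine (congrArg PrimeSpectrum.asIdeal hg).symm.trans ?_
      rw [← show (genPrime (specializes_refl x)).asIdeal = maximalIdeal _ from
        congrArg PrimeSpectrum.asIdeal (genPrime_refl x)]
      exact congrArg PrimeSpectrum.asIdeal ((genPrime_eq_iff hz (specializes_refl x)).2 e)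

variable {F} (hF : Cyc.CohLe δ (k + 1) F)
include hF

lemma exists_framing_stalk {ξ : X} (hξ : δ ξ = k + 1) :
    ∃ n : ℕ, Module.length (X.presheaf.stalk ξ)
      ↥(⊤ : Submodule (X.presheaf.stalk ξ) (F.presheaf.stalk ξ)) = n ∧
      Nonempty (Framing (κ := X.residueField ξ)
        (⊤ : Submodule (X.presheaf.stalk ξ) (F.presheaf.stalk ξ))) := by
  have := hX.1
  have hne := length_stalk_ne_top F hF.1 ξ (eq_of_delta_eq hX.2.2 hF.2 hξ)
  rw [← Module.length_top (R := X.presheaf.stalk ξ)] at hne
  obtain ⟨n, hn⟩ := ENat.ne_top_iff_exists.1 hne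
  exact ⟨n, hn.symm, exists_framing (algebraMap_res_surjective ξ) n ⊤ hn.symm⟩

omit hX in
lemma isLat_latN [IsLocallyNoetherian X] {x ξ : X} (h : ξ ⤳ x) :
    letI := algO h; letI := algK h
    haveI := tower h; haveI := towerSt F h
    IsLat (κ := X.residueField ξ) (X.presheaf.stalk x) (⊤ : Submodule (X.presheaf.stalk ξ) (St F h))
      (latN F h) := by
  letI := algO h; letI := algK h
  haveI := tower h; haveI := towerSt F h
  obtain ⟨_, _⟩ := hF.1
  haveI := QC70.finite_stalk F x
  refine ⟨?_, fun w _ => ?_⟩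
  · rw [latN, LinearMap.range_eq_map]
    exact Submodule.FG.map _ Module.Finite.fg_top
  · letI := CohMult.specModule F h
    haveI := CohMult.isLocalizedModule_specLin F ‹_› h
    obtain ⟨⟨m, s⟩, hs⟩ := IsLocalizedModule.surj (genPrime h).asIdeal.primeCompl (CohMult.specLin F h) w
    exact ⟨s, fun hk => s.2 (SetLike.ext_iff.1 (ker_specMap h) _ |>.1 hk), m, hs.symm⟩

open Classical in
lemma finite_supp (x : X) (hx : δ x = k) :
    {i : Pt δ k x | Nontrivial (F.presheaf.stalk i.1)}.Finite := by
  have := hX.1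
  obtain ⟨_, _⟩ := hF.1
  haveI := QC70.finite_stalk F x
  let A := X.presheaf.stalk x
  refine Set.Finite.of_finite_image (f := fun i : Pt δ k x => (genPrime i.2.1).asIdeal) ?_ ?_
  · refine ((Module.annihilator A (F.presheaf.stalk x)).finite_minimalPrimes_of_isNoetherianRing A).subset ?_
    rintro _ ⟨i, hi, rfl⟩
    have hs := (CohMult.nontrivial_stalk_iff_mem_support F ‹_› i.2.1).1 hi
    refine ⟨⟨(genPrime i.2.1).2, Module.mem_support_iff_of_finite.1 hs⟩, fun J hJ hJq => ?_⟩
    let q : PrimeSpectrum A := ⟨J, hJ.1⟩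
    have hz := fromSpecStalk_specializes q
    have hg : genPrime hz = q := genPrime_fromSpecStalk q
    have hle : X.fromSpecStalk x q ⤳ i.1 := (genPrime_le_iff hz i.2.1).1 (by rw [hg]; exact hJq)
    have hq : δ (X.fromSpecStalk x q) ≤ k + 1 :=
      hF.2 _ ((CohMult.nontrivial_stalk_iff_mem_support F ‹_› hz).2
        (hg.symm ▸ Module.mem_support_iff_of_finite.2 hJ.2))
    have := eq_of_delta_le hX.2.2 hle (by rw [i.2.2]; exact hq)
    exact ((congrArg PrimeSpectrum.asIdeal (hg.symm.trans ((genPrime_eq_iff hz i.2.1).2 this)))).ge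
  · intro i _ j _ e
    exact Subtype.ext ((genPrime_eq_iff i.2.1 j.2.1).1 (PrimeSpectrum.ext e))

lemma subsingleton_of_notMem {x : X} (hx : δ x = k) {i : Pt δ k x} (hi : i ∉ suppPts F δ k x) :
    Subsingleton (F.presheaf.stalk i.1) := by
  classical
  rw [suppPts, dif_pos (finite_supp hX hF x hx), Set.Finite.mem_toFinset] at hi
  exact not_nontrivial_iff_subsingleton.1 hi

/-- Away from the closed point the map to the lattices is bijective after localization. -/
lemma exists_killer {x : X} (hx : δ x = k) {S : Finset (Pt δ k x)} (hS : suppPts F δ k x ⊆ S)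
    (q : PrimeSpectrum (X.presheaf.stalk x)) (hq : q ≠ closedPoint _) :
    (∀ m ∈ LinearMap.ker (hmap F δ k S), ∃ t ∉ q.asIdeal, t • m = 0) ∧
    ∀ b, ∃ t ∉ q.asIdeal, t • b ∈ LinearMap.range (hmap F δ k S) := by
  classical
  have := hX.1
  obtain ⟨_, _⟩ := hF.1
  have hz := fromSpecStalk_specializes q
  have hg : genPrime hz = q := genPrime_fromSpecStalk q
  set z := X.fromSpecStalk x q with hzdef
  have hkill : ∀ m : F.presheaf.stalk x, F.presheaf.stalkSpecializes hz m = 0 →
      ∃ t ∉ q.asIdeal, t • m = 0 := by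
    intro m hm
    letI := CohMult.specModule F hz
    haveI := CohMult.isLocalizedModule_specLin F ‹_› hz
    obtain ⟨t, ht⟩ := (IsLocalizedModule.eq_zero_iff (genPrime hz).asIdeal.primeCompl
      (CohMult.specLin F hz)).1 hm
    exact ⟨t, fun h => t.2 (SetLike.ext_iff.1 (congrArg PrimeSpectrum.asIdeal hg) _ |>.2 h), ht⟩
  by_cases hzS : ∃ i ∈ S, (i : Pt δ k x).1 = z
  · obtain ⟨η, hηS, hη⟩ := hzS
    have hne : ∀ i : S, i.1 ≠ η → ∀ v : St F i.1.2.1, ∃ t ∉ q.asIdeal, t • v = 0 := by
      intro i hi v
      obtain ⟨a, ha, haq⟩ : ∃ a ∈ (genPrime i.1.2.1).asIdeal, a ∉ q.asIdeal := by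
        by_contra hcon
        push Not at hcon
        have h1 : i.1.1 ⤳ z := (genPrime_le_iff i.1.2.1 hz).1 (by rw [hg]; exact hcon)
        have h2 := eq_of_delta_le hX.2.2 h1 (by rw [i.1.2.2, ← hη, η.2.2])
        exact hi (Subtype.ext (h2.trans hη.symm))
      letI := algO i.1.2.1
      obtain ⟨-, -, ⟨e⟩⟩ := exists_framing_stalk hX hF i.1.2.2
      have ha' : algebraMap (X.presheaf.stalk i.1.1) (X.residueField i.1.1)
          (algebraMap (X.presheaf.stalk x) (X.presheaf.stalk i.1.1) a) = 0 := by
        rw [← ker_specMap] at ha; exact RingHom.mem_ker.1 ha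
      obtain ⟨n, hn⟩ := exists_pow_smul_eq_zero ha' e v trivial
      refine ⟨a ^ n, fun h => haq (q.2.mem_of_pow_mem n h), ?_⟩
      rw [← map_pow] at hn
      exact hn
    have hker : ∀ m, spL F η.2.1 m = 0 → F.presheaf.stalkSpecializes hz m = 0 := by
      rintro m hm
      have key : ∀ (z' : X) (hz' : z' ⤳ x), z' = η.1 → F.presheaf.stalkSpecializes hz' m = 0 := by
        rintro z' hz' rfl; exact hm
      exact key z hz hη.symm
    refine ⟨fun m hm => hkill m (hker m ?_), fun b => ?_⟩
    · have := congrArg Subtype.val (congrFun (LinearMap.mem_ker.1 hm) ⟨η, hηS⟩)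
      exact this
    · obtain ⟨m, hm⟩ := (b ⟨η, hηS⟩).2
      let w : (i : S) → ↥(latN F i.1.2.1) := b - hmap F δ k S m
      choose t ht htw using fun i : {i : S // i.1 ≠ η} => hne i.1 i.2 (w i.1).1
      refine ⟨∏ i, t i, fun h => ?_, (∏ i, t i) • m, ?_⟩
      · obtain ⟨i, -, hi⟩ := Ideal.IsPrime.prod_mem_iff.1 h
        exact ht i hi
      · rw [map_smul]
        refine (sub_eq_zero.1 ?_).symm
        rw [← smul_sub]
        funext i
        apply Subtype.ext
        change (∏ j, t j) • (w i).1 = (0 : St F i.1.2.1)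
        by_cases hi : i.1 = η
        · obtain ⟨i, hiS⟩ := i
          subst hi
          have : (w ⟨i, hiS⟩).1 = 0 := sub_eq_zero.2 hm.symm
          rw [this, smul_zero]
        · obtain ⟨c, hc⟩ := Finset.dvd_prod_of_mem t (Finset.mem_univ ⟨i, hi⟩)
          rw [hc, mul_comm, mul_smul, htw ⟨i, hi⟩, smul_zero]
  · have hzero : Subsingleton (F.presheaf.stalk z) := by
      refine not_nontrivial_iff_subsingleton.1 fun hnt => hzS ?_
      have h1 : δ z ≤ k + 1 := hF.2 z hnt
      have h2 : δ x < δ z := by
        rcases (delta_le hX.2.2 hz).lt_or_eq with h | h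
        · exact h
        · refine absurd ?_ hq
          rw [← hg, ← genPrime_refl x]
          exact (genPrime_eq_iff _ _).2 (eq_of_delta_le hX.2.2 hz h.ge)
      let i : Pt δ k x := ⟨z, hz, by omega⟩
      refine ⟨i, hS ?_, rfl⟩
      rw [suppPts, dif_pos (finite_supp hX hF x hx), Set.Finite.mem_toFinset]
      exact hnt
    have hall : ∀ m : F.presheaf.stalk x, ∃ t ∉ q.asIdeal, t • m = 0 := fun m =>
      hkill m (Subsingleton.elim _ _)
    refine ⟨fun m _ => hall m, fun b => ?_⟩
    choose m hm using fun i : S => (b i).2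
    choose t ht htm using fun i => hall (m i)
    refine ⟨∏ i, t i, fun h => ?_, 0, ?_⟩
    · obtain ⟨i, -, hi⟩ := Ideal.IsPrime.prod_mem_iff.1 h
      exact ht i hi
    · rw [map_zero]
      funext i
      apply Subtype.ext
      change 0 = (∏ j, t j) • (b i).1
      obtain ⟨c, hc⟩ := Finset.dvd_prod_of_mem t (Finset.mem_univ i)
      rw [hc, mul_comm, mul_smul, ← hm i, ← map_smul, htm i, map_zero, smul_zero]

lemma finChi {x : X} (hx : δ x = k) {S : Finset (Pt δ k x)} (hS : suppPts F δ k x ⊆ S) :
    FinChi (hmap F δ k S) := by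
  have := hX.1
  obtain ⟨_, _⟩ := hF.1
  haveI := QC70.finite_stalk F x
  haveI : ∀ i : S, Module.Finite (X.presheaf.stalk x) ↥(latN F i.1.2.1) := fun i =>
    inferInstanceAs (Module.Finite (X.presheaf.stalk x) ↥(LinearMap.range (spL F i.1.2.1)))
  have hmax : ∀ q : PrimeSpectrum (X.presheaf.stalk x), q = closedPoint _ → q.asIdeal.IsMaximal := by
    rintro q rfl; exact maximalIdeal.isMaximal _
  constructor
  · refine LC17.length_ne_top_of_support fun q hq => ?_
    by_contra hne
    obtain ⟨h1, -⟩ := exists_killer hX hF hx hS q fun e => hne (hmax q e)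
    obtain ⟨⟨m, hm⟩, hmq⟩ := Module.mem_support_iff'.1 hq
    obtain ⟨t, ht, htm⟩ := h1 m hm
    exact hmq t ht (Subtype.ext htm)
  · refine LC17.length_ne_top_of_support fun q hq => ?_
    by_contra hne
    obtain ⟨-, h2⟩ := exists_killer hX hF hx hS q fun e => hne (hmax q e)
    obtain ⟨b, hbq⟩ := Module.mem_support_iff'.1 hq
    obtain ⟨b, rfl⟩ := Submodule.Quotient.mk_surjective _ b
    obtain ⟨t, ht, htb⟩ := h2 b
    exact hbq t ht ((Submodule.Quotient.mk_smul _ _ _).symm.trans ((Submodule.Quotient.mk_eq_zero _).2 htb))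

end Groth.Agent.Cyc90.Frame
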