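import Groth.Agent.Cyc90.Frame.Additive
import Groth.Agent.QC70.CohOps

/-! Periodic complexes. -/

set_option autoImplicit false
set_option backward.isDefEq.respectTransparency.types false
universe u

open CategoryTheory CategoryTheory.Limits AlgebraicGeometry

namespace Groth.Agent.Cyc90.Frame

variable {X : Scheme.{u}} {δ : X → ℤ} {k : ℤ}

lemma cohLe_of_mono {A B : X.Modules} (φ : A ⟶ B) [Mono φ] {n : ℤ} (hB : Cyc.CohLe δ n B)
    (hA : Coh.IsCoh A) : Cyc.CohLe δ n A :=
  ⟨hA, fun z hz => hB.2 z (QC70.injective_stalkMapM_of_mono φ z).nontrivial⟩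

lemma cF_kernel (hX : Cyc.IsSetup X δ) {A B : X.Modules} (π : A ⟶ B) [Epi π]
    (hA : Cyc.CohLe δ (k + 1) A) (hB : Coh.IsCoh B) (hK : Coh.IsCoh (kernel π)) :
    RatFamIn δ k Set.univ (fun x => cF A δ k x - cF (kernel π) δ k x - cF B δ k x) :=
  cF_shortExact hX (T := ShortComplex.mk (kernel.ι π) π (kernel.condition π))
    (ShortComplex.ShortExact.mk' (ShortComplex.exact_of_f_is_kernel _ (kernelIsKernel π))
      (inferInstanceAs (Mono (kernel.ι π))) (inferInstanceAs (Epi π))) hA hK hB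

lemma cF_kernelFork (hX : Cyc.IsSetup X δ) {Z A K : X.Modules} (i : Z ⟶ A) (g : A ⟶ K) (w : i ≫ g = 0)
    (hi : Mono i) (hg : Epi g) (hl : IsLimit (KernelFork.ofι i w))
    (hA : Cyc.CohLe δ (k + 1) A) (hZ : Coh.IsCoh Z) (hK : Coh.IsCoh K) :
    RatFamIn δ k Set.univ (fun x => cF A δ k x - cF Z δ k x - cF K δ k x) :=
  cF_shortExact hX (T := ShortComplex.mk i g w)
    (ShortComplex.ShortExact.mk' (ShortComplex.exact_of_f_is_kernel _ hl) hi hg) hA hZ hK

/-- The two sequences attached to one homology of a periodic complex. -/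
theorem periodic_step (hX : Cyc.IsSetup X δ) {F : X.Modules} (hF : Cyc.CohLe δ (k + 1) F)
    (φ ψ : F ⟶ F) (hφψ : φ ≫ ψ = 0) (hψφ : ψ ≫ φ = 0) :
    ∃ K : X.Modules, RatFamIn δ k Set.univ (fun x => cF (ShortComplex.mk φ ψ hφψ).cycles δ k x -
      cF K δ k x - cF (ShortComplex.mk φ ψ hφψ).homology δ k x) ∧
      RatFamIn δ k Set.univ (fun x => cF F δ k x - cF (ShortComplex.mk ψ φ hψφ).cycles δ k x -
        cF K δ k x) := by
  have := hX.1
  set S := ShortComplex.mk φ ψ hφψ with hS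
  set S' := ShortComplex.mk ψ φ hψφ with hS'
  obtain ⟨_, _⟩ := hF.1
  have hF' : Coh.IsCoh F := hF.1
  have hZ : Coh.IsCoh S.cycles := by
    have e : kernel ψ ≅ S.cycles :=
      IsLimit.conePointUniqueUpToIso (kernelIsKernel ψ) S.cyclesIsKernel
    have := QC70.isCoh_kernel ψ hF' hF'.1
    exact QC70.isCoh_of_iso e this
  have hZ' : Coh.IsCoh S'.cycles := by
    have e : kernel φ ≅ S'.cycles :=
      IsLimit.conePointUniqueUpToIso (kernelIsKernel φ) S'.cyclesIsKernel
    have := QC70.isCoh_kernel φ hF' hF'.1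
    exact QC70.isCoh_of_iso e this
  have hH : Coh.IsCoh S.homology := by
    have e : cokernel S.toCycles ≅ S.homology :=
      IsColimit.coconePointUniqueUpToIso (cokernelIsCokernel S.toCycles) S.homologyIsCokernel
    exact QC70.isCoh_of_iso e (QC70.isCoh_cokernel S.toCycles hF'.1 hZ)
  have hK : Coh.IsCoh (kernel S.homologyπ) := QC70.isCoh_kernel _ hZ hH.1
  have gZ : Cyc.CohLe δ (k + 1) S.cycles := cohLe_of_mono (S.iCycles : S.cycles ⟶ F) hF hZ
  refine ⟨kernel S.homologyπ, cF_kernel hX S.homologyπ gZ hH hK, ?_⟩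
  · let g : F ⟶ kernel S.homologyπ := kernel.lift _ S.toCycles S.toCycles_comp_homologyπ
    have hg : g ≫ kernel.ι _ ≫ S.iCycles = φ := by
      rw [kernel.lift_ι_assoc, S.toCycles_i]
    have hw : S'.iCycles ≫ g = 0 := by
      rw [← cancel_mono (kernel.ι S.homologyπ ≫ S.iCycles), Category.assoc, hg, zero_comp]
      exact S'.iCycles_g
    have hepi : Epi g := (ShortComplex.exact_of_g_is_cokernel
      (ShortComplex.mk S.toCycles S.homologyπ S.toCycles_comp_homologyπ) S.homologyIsCokernel).epi_kernelLift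
    have hker : IsLimit (KernelFork.ofι (S'.iCycles : S'.cycles ⟶ F) hw) :=
      KernelFork.IsLimit.ofι _ _
        (fun {W} a ha => S'.liftCycles a (show a ≫ φ = 0 by rw [← hg, reassoc_of% ha, zero_comp]))
        (fun a ha => S'.liftCycles_i _ _)
        (fun a ha b hb => by rw [← cancel_mono S'.iCycles, S'.liftCycles_i]; exact hb)
    exact cF_kernelFork hX (S'.iCycles : S'.cycles ⟶ F) g hw (inferInstanceAs (Mono S'.iCycles)) hepi
      hker hF hZ' hK

/-- The homologies of a periodic complex have rationally equivalent cycles. -/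
theorem ratFamIn_perH (hX : Cyc.IsSetup X δ) {F : X.Modules} (hF : Cyc.CohLe δ (k + 1) F)
    (φ ψ : F ⟶ F) (hφψ : φ ≫ ψ = 0) (hψφ : ψ ≫ φ = 0)
    (h0 : ∀ x : X, Nontrivial ((ShortComplex.mk φ ψ hφψ).homology.presheaf.stalk x) → δ x ≤ k)
    (h1 : ∀ x : X, Nontrivial ((ShortComplex.mk ψ φ hψφ).homology.presheaf.stalk x) → δ x ≤ k) :
    RatFamIn δ k Set.univ (fun x => Cyc.sheafFun δ k (ShortComplex.mk φ ψ hφψ).homology x -
      Cyc.sheafFun δ k (ShortComplex.mk ψ φ hψφ).homology x) := by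
  have := hX.1
  obtain ⟨K0, B, A⟩ := periodic_step hX hF φ ψ hφψ hψφ
  obtain ⟨K1, D, C⟩ := periodic_step hX hF ψ φ hψφ hφψ
  have hcoh : ∀ (a b : F ⟶ F) (w : a ≫ b = 0), Coh.IsCoh (ShortComplex.mk a b w).homology := by
    intro a b w
    let S := ShortComplex.mk a b w
    have e : cokernel S.toCycles ≅ S.homology :=
      IsColimit.coconePointUniqueUpToIso (cokernelIsCokernel S.toCycles) S.homologyIsCokernel
    have e' : kernel b ≅ S.cycles :=
      IsLimit.conePointUniqueUpToIso (kernelIsKernel b) S.cyclesIsKernel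
    exact QC70.isCoh_of_iso e (QC70.isCoh_cokernel S.toCycles hF.1.1
      (QC70.isCoh_of_iso e' (QC70.isCoh_kernel b hF.1 hF.1.1)))
  rw [← cF_eq_sheafFun hX ⟨hcoh φ ψ hφψ, h0⟩, ← cF_eq_sheafFun hX ⟨hcoh ψ φ hψφ, h1⟩]
  exact (ratFamIn_add isClosed_univ (ratFamIn_sub hX isClosed_univ D B)
    (ratFamIn_sub hX isClosed_univ A C)).congr fun x => by ring

end Groth.Agent.Cyc90.Frame
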