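import Groth.Agent.Cyc90.Frame.Ses

/-! Relative lengths of products; nilpotence along framings. -/

set_option autoImplicit false
universe u

namespace Groth.Agent.Cyc90.Frame

lemma relLen_pi {R : Type u} [CommRing R] {ι : Type u} [Fintype ι] [DecidableEq ι] {M : ι → Type u}
    [∀ i, AddCommGroup (M i)] [∀ i, Module R (M i)] (A B : ∀ i, Submodule R (M i)) :
    relLen (Submodule.pi Set.univ A) (Submodule.pi Set.univ B) = ∑ i, relLen (A i) (B i) := by
  let L : ↥(Submodule.pi Set.univ A) ≃ₗ[R] ((i : ι) → ↥(A i)) :=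
    { toFun := fun x i => ⟨x.1 i, x.2 i trivial⟩
      invFun := fun y => ⟨fun i => (y i).1, fun i _ => (y i).2⟩
      map_add' := fun _ _ => rfl
      map_smul' := fun _ _ => rfl
      left_inv := fun _ => rfl
      right_inv := fun _ => rfl }
  rw [relLen]
  refine ((Submodule.Quotient.equiv _ (Submodule.pi Set.univ fun i => (B i).comap (A i).subtype) L
    ?_).trans (Submodule.quotientPi _)).length_eq.trans (Module.length_pi_of_fintype _ _)
  ext y
  constructor
  · rintro ⟨x, hx, rfl⟩ i _; exact hx i trivial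
  · intro hy; exact ⟨L.symm y, fun i _ => hy i trivial, L.apply_symm_apply y⟩

lemma exists_pow_smul_eq_zero {O κ V : Type u} [CommRing O] [Field κ] [Algebra O κ] [AddCommGroup V]
    [Module O V] {a : O} (ha : algebraMap O κ a = 0) {W : Submodule O V} (e : Framing (κ := κ) W) :
    ∀ v ∈ W, ∃ n : ℕ, a ^ n • v = 0 := by
  induction e with
  | nil => exact fun v hv => ⟨0, by rw [(Submodule.mem_bot O).1 hv, smul_zero]⟩
  | @cons W W' φ hs hker hle e ih =>
    intro v hv
    have h : (a • v) ∈ W' := by
      have : (⟨a • v, W.smul_mem a hv⟩ : ↥W) ∈ LinearMap.ker φ := by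
        rw [LinearMap.mem_ker, show (⟨a • v, W.smul_mem a hv⟩ : ↥W) = a • ⟨v, hv⟩ from rfl, map_smul,
          Algebra.smul_def, ha, zero_mul]
      rw [hker] at this
      exact this
    obtain ⟨n, hn⟩ := ih _ h
    exact ⟨n + 1, by rw [pow_succ, mul_smul, hn]⟩

lemma chi_comp_equiv {R M B B' : Type u} [CommRing R] [AddCommGroup M] [Module R M] [AddCommGroup B]
    [Module R B] [AddCommGroup B'] [Module R B'] (e : B ≃ₗ[R] B') (h : M →ₗ[R] B) :
    chi (e.toLinearMap ∘ₗ h) = chi h := by
  rw [chi, chi, LinearEquiv.ker_comp, LinearMap.range_comp,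
    (Submodule.Quotient.equiv (LinearMap.range h) _ e rfl).length_eq]

end Groth.Agent.Cyc90.Frame
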