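import Mathlib.RingTheory.Length
import Mathlib.LinearAlgebra.Isomorphisms
import Mathlib.LinearAlgebra.Quotient.Pi

/-! Relative lengths and indices of submodules. -/

set_option autoImplicit false
universe u v w

namespace Groth.Agent.Cyc90.Frame

variable {R : Type u} [CommRing R] {M : Type v} [AddCommGroup M] [Module R M]
  {P : Type w} [AddCommGroup P] [Module R P]

/-- The length of `A/B` for submodules `B ≤ A`. -/
noncomputable def relLen (A B : Submodule R M) : ℕ∞ :=
  Module.length R (↥A ⧸ Submodule.comap A.subtype B)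

/-- The integer version. -/
noncomputable def zl (A B : Submodule R M) : ℤ := ((relLen A B).toNat : ℤ)

lemma relLen_add {A B C : Submodule R M} (hBA : B ≤ A) (hCB : C ≤ B) :
    relLen A C = relLen A B + relLen B C := by
  let i : ↥B →ₗ[R] ↥A := Submodule.inclusion hBA
  have hi : Submodule.comap B.subtype C ≤ (Submodule.comap A.subtype C).comap i := fun x hx => hx
  have hj : Submodule.comap A.subtype C ≤ (Submodule.comap A.subtype B).comap LinearMap.id :=
    fun x hx => hCB hx
  let f := Submodule.mapQ _ _ i hi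
  let g := Submodule.mapQ _ _ LinearMap.id hj
  rw [relLen, relLen, relLen, add_comm]
  refine Module.length_eq_add_of_exact f g ?_ ?_ ?_
  · rw [← LinearMap.ker_eq_bot]
    refine eq_bot_iff.2 fun x hx => ?_
    obtain ⟨x, rfl⟩ := Submodule.Quotient.mk_surjective _ x
    exact (Submodule.Quotient.mk_eq_zero _).2
      ((Submodule.Quotient.mk_eq_zero (Submodule.comap A.subtype C)).1 (LinearMap.mem_ker.1 hx) :)
  · intro x
    obtain ⟨x, rfl⟩ := Submodule.Quotient.mk_surjective _ x
    exact ⟨Submodule.Quotient.mk x, rfl⟩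
  · intro x
    obtain ⟨x, rfl⟩ := Submodule.Quotient.mk_surjective _ x
    constructor
    · intro hx
      have hxB : (x : M) ∈ B := (Submodule.Quotient.mk_eq_zero (Submodule.comap A.subtype B)).1 hx
      exact ⟨Submodule.Quotient.mk ⟨x, hxB⟩, rfl⟩
    · rintro ⟨y, hy⟩
      obtain ⟨y, rfl⟩ := Submodule.Quotient.mk_surjective _ y
      rw [← hy]
      exact (Submodule.Quotient.mk_eq_zero _).2 y.2

@[simp] lemma relLen_self (A : Submodule R M) : relLen A A = 0 := by
  rw [relLen, Submodule.comap_subtype_self]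
  exact Module.length_eq_zero

lemma relLen_le_of_le {A B A' B' : Submodule R M} (hBA : B ≤ A) (hA : A' ≤ A) (hB : A' ⊓ B ≤ B') :
    relLen A' B' ≤ relLen A B := by
  calc relLen A' B' ≤ relLen A' (A' ⊓ B) := by
        refine Module.length_le_of_surjective
          (Submodule.mapQ _ _ LinearMap.id (fun x hx => hB hx)) fun x => ?_
        obtain ⟨x, rfl⟩ := Submodule.Quotient.mk_surjective _ x
        exact ⟨Submodule.Quotient.mk x, rfl⟩
    _ ≤ relLen A B := by
        refine Module.length_le_of_injective (Submodule.mapQ _ _ (Submodule.inclusion hA)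
          (fun x hx => (hx : (x : M) ∈ A' ⊓ B).2)) ?_
        rw [← LinearMap.ker_eq_bot]
        refine eq_bot_iff.2 fun x hx => ?_
        obtain ⟨x, rfl⟩ := Submodule.Quotient.mk_surjective _ x
        exact (Submodule.Quotient.mk_eq_zero _).2
          ⟨x.2, ((Submodule.Quotient.mk_eq_zero (Submodule.comap A.subtype B)).1 hx :)⟩

lemma relLen_sup (A B : Submodule R M) : relLen (A ⊔ B) B = relLen A (A ⊓ B) :=
  ((LinearMap.quotientInfEquivSupQuotient A B).length_eq).symm

/-- Relative lengths under a linear map. -/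
lemma relLen_map (f : M →ₗ[R] P) {A B : Submodule R M} (h : B ≤ A) :
    relLen A B = relLen (A.map f) (B.map f) + relLen (A ⊓ LinearMap.ker f) (B ⊓ LinearMap.ker f) := by
  let C := (A ⊓ LinearMap.ker f) ⊔ B
  have hCA : C ≤ A := sup_le inf_le_left h
  rw [relLen_add hCA le_sup_right, relLen_sup]
  congr 1
  · let g : ↥A →ₗ[R] ↥(A.map f) ⧸ (B.map f).comap (A.map f).subtype :=
      (Submodule.mkQ _).comp (f.submoduleMap A)
    have hg : Function.Surjective g :=
      (Submodule.mkQ_surjective _).comp (f.submoduleMap_surjective A)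
    have hk : LinearMap.ker g = C.comap A.subtype := by
      ext x
      simp only [g, LinearMap.mem_ker, LinearMap.comp_apply, Submodule.mkQ_apply,
        Submodule.Quotient.mk_eq_zero, Submodule.mem_comap, Submodule.subtype_apply,
        LinearMap.submoduleMap_coe_apply, Submodule.mem_map, C]
      constructor
      · rintro ⟨b, hb, e⟩
        have h1 : (x : M) = ((x : M) - b) + b := (sub_add_cancel _ _).symm
        rw [h1]
        exact add_mem (Submodule.mem_sup_left ⟨sub_mem x.2 (h hb), by simp [e]⟩)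
          (Submodule.mem_sup_right hb)
      · intro hx
        obtain ⟨a, ha, b, hb, e⟩ := Submodule.mem_sup.1 hx
        exact ⟨b, hb, by rw [← e, map_add, LinearMap.mem_ker.1 ha.2, zero_add]⟩
    exact ((Submodule.quotEquivOfEq _ _ hk.symm).trans (g.quotKerEquivOfSurjective hg)).length_eq
  · congr 1
    rw [inf_comm A, inf_assoc, inf_eq_right.2 h, inf_comm]

lemma relLen_map_of_injective (f : M →ₗ[R] P) (hf : Function.Injective f) {A B : Submodule R M}
    (h : B ≤ A) : relLen (A.map f) (B.map f) = relLen A B := by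
  rw [relLen_map f h, LinearMap.ker_eq_bot.2 hf, inf_bot_eq, inf_bot_eq, relLen_self, add_zero]

lemma relLen_top_bot : relLen (⊤ : Submodule R M) ⊥ = Module.length R M := by
  rw [relLen]
  exact ((Submodule.quotEquivOfEqBot _ (by simp)).trans Submodule.topEquiv).length_eq

lemma relLen_top (B : Submodule R M) : relLen ⊤ B = Module.length R (M ⧸ B) := by
  rw [relLen]
  exact (Submodule.Quotient.equiv _ _ Submodule.topEquiv (by
    ext x; simp [Submodule.mem_map, Submodule.topEquiv])).length_eq

lemma relLen_bot_eq_length (A : Submodule R M) : relLen A ⊥ = Module.length R A :=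
  (Submodule.quotEquivOfEqBot _ (by simp)).length_eq

lemma zl_add {A B C : Submodule R M} (hBA : B ≤ A) (hCB : C ≤ B) (h1 : relLen A B ≠ ⊤)
    (h2 : relLen B C ≠ ⊤) : zl A C = zl A B + zl B C := by
  rw [zl, relLen_add hBA hCB, ENat.toNat_add h1 h2, Nat.cast_add]
  rfl

@[simp] lemma zl_self (A : Submodule R M) : zl A A = 0 := by simp [zl]

/-- Two submodules are commensurable. -/
def Comm2 (A B : Submodule R M) : Prop := relLen A (A ⊓ B) ≠ ⊤ ∧ relLen B (A ⊓ B) ≠ ⊤

/-- The index of two commensurable submodules. -/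
noncomputable def idx (A B : Submodule R M) : ℤ := zl A (A ⊓ B) - zl B (A ⊓ B)

@[simp] lemma idx_self (A : Submodule R M) : idx A A = 0 := by simp [idx]

lemma idx_of_le {A B : Submodule R M} (h : B ≤ A) : idx A B = zl A B := by
  rw [idx, inf_eq_right.2 h, zl_self, sub_zero]

lemma comm2_of_le {A B C : Submodule R M} (hA : C ≤ A) (hB : C ≤ B) (h1 : relLen A C ≠ ⊤)
    (h2 : relLen B C ≠ ⊤) : Comm2 A B := by
  constructor
  · exact ne_top_of_le_ne_top h1 ((relLen_add inf_le_left (le_inf hA hB)).ge.trans' le_self_add)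
  · exact ne_top_of_le_ne_top h2 ((relLen_add inf_le_right (le_inf hA hB)).ge.trans' le_self_add)

lemma idx_eq {A B C : Submodule R M} (hA : C ≤ A) (hB : C ≤ B) (h1 : relLen A C ≠ ⊤)
    (h2 : relLen B C ≠ ⊤) : idx A B = zl A C - zl B C := by
  obtain ⟨c1, c2⟩ := comm2_of_le hA hB h1 h2
  have h3 : relLen (A ⊓ B) C ≠ ⊤ :=
    ne_top_of_le_ne_top h1 ((relLen_add inf_le_left (le_inf hA hB)).ge.trans' le_add_self)
  rw [zl_add inf_le_left (le_inf hA hB) c1 h3, zl_add inf_le_right (le_inf hA hB) c2 h3, idx]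
  ring

lemma Comm2.refl (A : Submodule R M) : Comm2 A A := by simp [Comm2]

lemma Comm2.symm {A B : Submodule R M} (h : Comm2 A B) : Comm2 B A := by
  rw [Comm2, inf_comm]; exact ⟨h.2, h.1⟩

lemma Comm2.exists_inf {A B C : Submodule R M} (h : Comm2 A B) (h' : Comm2 B C) :
    relLen A (A ⊓ B ⊓ C) ≠ ⊤ ∧ relLen B (A ⊓ B ⊓ C) ≠ ⊤ ∧ relLen C (A ⊓ B ⊓ C) ≠ ⊤ := by
  have e1 : relLen (A ⊓ B) (A ⊓ B ⊓ C) ≠ ⊤ :=
    ne_top_of_le_ne_top h'.1 (relLen_le_of_le inf_le_left inf_le_right
      (le_inf inf_le_left (inf_le_right.trans inf_le_right)))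
  have e2 : relLen (B ⊓ C) (A ⊓ B ⊓ C) ≠ ⊤ :=
    ne_top_of_le_ne_top h.2 (relLen_le_of_le inf_le_right inf_le_left
      (le_inf inf_le_right (inf_le_left.trans inf_le_right)))
  refine ⟨?_, ?_, ?_⟩
  · rw [relLen_add inf_le_left inf_le_left]; exact WithTop.add_ne_top.2 ⟨h.1, e1⟩
  · rw [relLen_add inf_le_right inf_le_left]; exact WithTop.add_ne_top.2 ⟨h.2, e1⟩
  · rw [relLen_add (inf_le_right : B ⊓ C ≤ C) (le_inf (inf_le_left.trans inf_le_right) inf_le_right)]
    exact WithTop.add_ne_top.2 ⟨h'.2, e2⟩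

lemma Comm2.trans {A B C : Submodule R M} (h : Comm2 A B) (h' : Comm2 B C) : Comm2 A C := by
  obtain ⟨a, -, c⟩ := h.exists_inf h'
  exact comm2_of_le (inf_le_left.trans inf_le_left) inf_le_right a c

lemma idx_add {A B C : Submodule R M} (h : Comm2 A B) (h' : Comm2 B C) :
    idx A C = idx A B + idx B C := by
  obtain ⟨a, b, c⟩ := h.exists_inf h'
  rw [idx_eq (inf_le_left.trans inf_le_left) inf_le_right a c,
    idx_eq (inf_le_left.trans inf_le_left) (inf_le_left.trans inf_le_right) a b,
    idx_eq (inf_le_left.trans inf_le_right) inf_le_right b c]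
  ring

lemma idx_map (f : M →ₗ[R] P) (hf : Function.Injective f) (A B : Submodule R M) :
    idx (A.map f) (B.map f) = idx A B := by
  rw [idx, idx, ← Submodule.map_inf f hf, zl, zl, zl, zl,
    relLen_map_of_injective f hf inf_le_left, relLen_map_of_injective f hf inf_le_right]

lemma Comm2.map (f : M →ₗ[R] P) (hf : Function.Injective f) {A B : Submodule R M} (h : Comm2 A B) :
    Comm2 (A.map f) (B.map f) := by
  rw [Comm2, ← Submodule.map_inf f hf, relLen_map_of_injective f hf inf_le_left,
    relLen_map_of_injective f hf inf_le_right]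
  exact h

end Groth.Agent.Cyc90.Frame
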