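import Groth.Agent.Cyc90.Frame.Compare

/-! Framings and short exact sequences. -/

set_option autoImplicit false
universe u

namespace Groth.Agent.Cyc90.Frame

section

variable {O κ : Type u} [CommRing O] [Field κ] [Algebra O κ] {V V' V'' : Type u}
  [AddCommGroup V] [Module O V] [AddCommGroup V'] [Module O V'] [AddCommGroup V''] [Module O V'']

/-- The image of a framing under an injective map. -/
noncomputable def Framing.map (i : V' →ₗ[O] V) (hi : Function.Injective i) :
    {W : Submodule O V'} → Framing (κ := κ) W → Framing (κ := κ) (W.map i)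
  | _, .nil => (Submodule.map_bot i).symm ▸ (.nil : Framing (κ := κ) (⊥ : Submodule O V))
  | _, .cons (W := W) (W' := W') φ hs hker hle e =>
    .cons (φ ∘ₗ (Submodule.equivMapOfInjective i hi W).symm.toLinearMap)
      (hs.comp (LinearEquiv.surjective _))
      (by
        ext x
        obtain ⟨⟨w, hw⟩, rfl⟩ := (Submodule.equivMapOfInjective i hi W).surjective x
        rw [LinearMap.mem_ker, LinearMap.comp_apply, LinearEquiv.coe_coe, LinearEquiv.symm_apply_apply,
          ← LinearMap.mem_ker, hker]
        refine ⟨fun h => ⟨w, h, rfl⟩, fun ⟨v, hv, e⟩ => ?_⟩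
        have hvw : v = w := hi e
        change w ∈ W'
        rw [← hvw]; exact hv)
      (Submodule.map_mono hle) (Framing.map i hi e)

/-- Lifting a framing along a surjection. -/
noncomputable def Framing.lift (g : V →ₗ[O] V'') (hg : Function.Surjective g)
    (base : Framing (κ := κ) ((⊥ : Submodule O V'').comap g)) :
    {W : Submodule O V''} → Framing (κ := κ) W → Framing (κ := κ) (W.comap g)
  | _, .nil => base
  | _, .cons (W := W) (W' := W') φ hs hker hle e =>
    .cons (φ ∘ₗ g.restrict (p := W.comap g) (q := W) fun _ h => h)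
      (hs.comp fun ⟨w, hw⟩ => by
        obtain ⟨v, rfl⟩ := hg w
        exact ⟨⟨v, hw⟩, rfl⟩)
      (by rw [LinearMap.ker_comp, hker]; rfl)
      (Submodule.comap_mono hle) (Framing.lift g hg base e)

variable (R : Type u) [CommRing R] [Algebra R O] [Algebra R κ] [IsScalarTower R O κ]
  [Module R V] [IsScalarTower R O V] [Module R V'] [IsScalarTower R O V'] [Module R V'']
  [IsScalarTower R O V'']

lemma d_cast {W W' : Submodule O V} (h : W = W') (e : Framing (κ := κ) W) (N : Submodule R V) :
    d R (h ▸ e) N = d R e N := by subst h; rfl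

lemma d_map (i : V' →ₗ[O] V) (hi : Function.Injective i) {W : Submodule O V'}
    (e : Framing (κ := κ) W) (N : Submodule R V) :
    d R (e.map i hi) N = d R e (N.comap (i.restrictScalars R)) := by
  induction e with
  | nil => rw [Framing.map, d_cast, d, d]
  | @cons W W' φ hs hker hle e ih =>
    rw [Framing.map, d, d, ih]
    congr 2
    ext z
    simp only [mem_img]
    constructor
    · rintro ⟨v, ⟨w, hw, rfl⟩, hN, rfl⟩
      refine ⟨w, hw, hN, ?_⟩
      change φ _ = φ _
      congr 1
      exact ((LinearEquiv.eq_symm_apply _).2 rfl)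
    · rintro ⟨w, hw, hN, rfl⟩
      refine ⟨i w, ⟨w, hw, rfl⟩, hN, ?_⟩
      change φ _ = φ _
      congr 1
      exact ((LinearEquiv.symm_apply_eq _).2 rfl)

lemma d_lift (g : V →ₗ[O] V'') (hg : Function.Surjective g)
    (base : Framing (κ := κ) ((⊥ : Submodule O V'').comap g)) {W : Submodule O V''}
    (e : Framing (κ := κ) W) (N : Submodule R V) :
    d R (Framing.lift g hg base e) N = d R base N + d R e (N.map (g.restrictScalars R)) := by
  induction e with
  | nil => simp [Framing.lift, d]
  | @cons W W' φ hs hker hle e ih =>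
    rw [Framing.lift, d, d, ih, ← add_assoc, ← add_assoc, add_comm (idx _ _)]
    congr 3
    ext z
    simp only [mem_img]
    constructor
    · rintro ⟨v, hv, hN, rfl⟩
      exact ⟨g v, hv, ⟨v, hN, rfl⟩, rfl⟩
    · rintro ⟨w, hw, ⟨v, hN, e'⟩, rfl⟩
      change g v = w at e'
      subst e'
      exact ⟨v, hw, hN, rfl⟩

end

section Chi

variable {R : Type u} [CommRing R] {M B M'' C : Type u} [AddCommGroup M] [Module R M]
  [AddCommGroup B] [Module R B] [AddCommGroup M''] [Module R M''] [AddCommGroup C] [Module R C]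

/-- The Euler characteristic of a linear map. -/
noncomputable def chi (h : M →ₗ[R] B) : ℤ :=
  ((Module.length R (LinearMap.ker h)).toNat : ℤ) - ((Module.length R (B ⧸ LinearMap.range h)).toNat : ℤ)

/-- Finite kernel and cokernel. -/
def FinChi (h : M →ₗ[R] B) : Prop :=
  Module.length R (LinearMap.ker h) ≠ ⊤ ∧ Module.length R (B ⧸ LinearMap.range h) ≠ ⊤

/-- Additivity of the Euler characteristic. -/
theorem chi_eq_add (h : M →ₗ[R] B) (h'' : M'' →ₗ[R] C) (p : M →ₗ[R] M'') (q : B →ₗ[R] C)
    (hp : Function.Surjective p) (hq : Function.Surjective q) (hc : h'' ∘ₗ p = q ∘ₗ h)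
    (hh : FinChi h) (hh'' : FinChi h'')
    (hA : relLen (LinearMap.ker q) ((LinearMap.ker p).map h) ≠ ⊤) :
    chi h = ((Module.length R ↥(LinearMap.ker h ⊓ LinearMap.ker p)).toNat : ℤ)
      - zl (LinearMap.ker q) ((LinearMap.ker p).map h) + chi h'' := by
  let K := LinearMap.ker h
  let M' := LinearMap.ker p
  let A := LinearMap.ker q
  let J : Submodule R M := A.comap h
  have hM'J : M' ≤ J := fun m hm => by
    change q (h m) = 0
    rw [← LinearMap.comp_apply, ← hc, LinearMap.comp_apply, LinearMap.mem_ker.1 hm, map_zero]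
  have hKJ : K ≤ J := fun m hm => by
    change q (h m) = 0
    rw [LinearMap.mem_ker.1 hm, map_zero]
  have hmap : M'.map h ≤ A := Submodule.map_le_iff_le_comap.2 hM'J
  have hJA : J.map h = A ⊓ LinearMap.range h := by
    rw [inf_comm]; exact Submodule.map_comap_eq h A
  have hpJ : J.map p = LinearMap.ker h'' := by
    ext m
    constructor
    · rintro ⟨v, hv, rfl⟩
      change q (h v) = 0 at hv
      rw [LinearMap.mem_ker, ← LinearMap.comp_apply, hc]; exact hv
    · intro hm
      obtain ⟨v, rfl⟩ := hp m
      refine ⟨v, ?_, rfl⟩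
      change q (h v) = 0
      rw [← LinearMap.comp_apply, ← hc]; exact hm
  have hK'' : Module.length R (LinearMap.ker h'') = relLen J M' := by
    rw [relLen_map p hM'J, inf_eq_right.2 hM'J, inf_idem, relLen_self, add_zero, hpJ,
      show M'.map p = ⊥ from eq_bot_iff.2 (Submodule.map_le_iff_le_comap.2 le_rfl), relLen_bot_eq_length]
  have h1 : relLen J M' = relLen (A ⊓ LinearMap.range h) (M'.map h) + relLen K (M' ⊓ K) := by
    rw [relLen_map h hM'J, hJA, inf_eq_right.2 hKJ]
  have h2 : relLen K (M' ⊓ K) + Module.length R ↥(M' ⊓ K) = Module.length R K := by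
    rw [← relLen_bot_eq_length, ← relLen_bot_eq_length, ← relLen_add inf_le_right bot_le]
  have h3 : relLen A (M'.map h) =
      relLen A (A ⊓ LinearMap.range h) + relLen (A ⊓ LinearMap.range h) (M'.map h) :=
    relLen_add inf_le_left (le_inf hmap (by rw [LinearMap.range_eq_map]; exact Submodule.map_mono le_top))
  have hrq : (LinearMap.range h).map q = LinearMap.range h'' := by
    rw [← LinearMap.range_comp, ← hc, LinearMap.range_comp_of_range_eq_top h'' (LinearMap.range_eq_top.2 hp)]
  have h4 : Module.length R (B ⧸ LinearMap.range h) =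
      Module.length R (C ⧸ LinearMap.range h'') + relLen A (A ⊓ LinearMap.range h) := by
    rw [← relLen_top, relLen_map q le_top, top_inf_eq, Submodule.map_top, LinearMap.range_eq_top.2 hq,
      hrq, relLen_top, inf_comm (LinearMap.range h)]
  have f1 : relLen A (A ⊓ LinearMap.range h) ≠ ⊤ := fun e => hh.2 (by rw [h4, e, add_top])
  have f2 : relLen (A ⊓ LinearMap.range h) (M'.map h) ≠ ⊤ := fun e => hA (by rw [h3, e, add_top])
  have f3 : relLen K (M' ⊓ K) ≠ ⊤ := fun e => hh.1 (by rw [← h2, e, top_add])
  have f4 : Module.length R ↥(M' ⊓ K) ≠ ⊤ := fun e => hh.1 (by rw [← h2, e, add_top])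
  rw [show LinearMap.ker h ⊓ LinearMap.ker p = M' ⊓ K from inf_comm _ _, zl, h3, chi, chi, ← h2, h4,
    hK'', h1, ENat.toNat_add f3 f4, ENat.toNat_add hh''.2 f1, ENat.toNat_add f1 f2, ENat.toNat_add f2 f3]
  push_cast
  ring

end Chi

end Groth.Agent.Cyc90.Frame
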